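import Cfsg.Agent.Lib.UFourType.Coords.Elems

/-!
# The coded centraliser and the values of the three unknown bits
-/

set_option autoImplicit false
set_option linter.unusedSectionVars false
set_option maxRecDepth 100000

namespace CfsgLib.UFourType.Coords

open Subgroup

variable {G : Type*} [Group G]

/-- The element of a class. -/
def lEl (x y d s : G) (l : ℕ) : G := x ^ (l % 3) * y ^ (l / 3 % 3) * (d ^ (l / 9 % 2) * s ^ (l / 18))

/-- The element of a code. -/
def cEl (z : G) (q : ℕ → G) (x y d s : G) (c : ℕ) : G := qEl z q (c % 32) * lEl x y d s (c / 32)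

/-- The codes commuting with the code 5. -/
def c5List : List ℕ :=
  [0, 9, 18, 27].flatMap fun l => [0, 1, 4, 5, 10, 11, 14, 15, 16, 17, 20, 21, 26, 27, 30, 31].map (· + 32 * l)

theorem c5_mem : ∀ c < 1152, cMulWith false false false c 5 = cMulWith false false false 5 c → c ∈ c5List := by
  decide +kernel

theorem ds_aut : ∀ a < 2, ∀ b < 2, ∀ v < 32,
    qAut ((List.range 4).map fun j => dsAct a b (2 ^ j)) v = dsAct a b v := by decide +kernel

theorem ds_zero : ∀ k < 4, dsAct 0 0 (2 ^ k) = 2 ^ k := by decide +kernel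

theorem lAct_eq (l v : ℕ) : lAct l v = pAct (l % 3) (l / 3 % 3) (dsAct (l / 9 % 2) (l / 18) v) := rfl

theorem qConj_lt (v w : ℕ) : qConj v w < 32 := qMul_lt _ _

theorem sig_inj : ∀ l < 36, ∀ m < 36, (∀ k < 4, lAct l (2 ^ k) % 16 = lAct m (2 ^ k) % 16) → l = m := by
  decide +kernel

theorem conj_mod : ∀ u < 32, ∀ w < 32, qConj u w % 16 = w % 16 := by decide +kernel

theorem excl : ∀ e₁ e₂ e₃ : Bool, ¬(e₁ = true ∧ e₂ = false ∧ e₃ = true) →
    ∀ B ∈ c5List, 32 ≤ B → cMulWith e₁ e₂ e₃ B B = 5 →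
    ∀ w₁ ∈ wList, cMulWith e₁ e₂ e₃ 1 B = cMulWith e₁ e₂ e₃ w₁ (cMulWith e₁ e₂ e₃ B 1) → wSwap w₁ = w₁ →
    ∀ w ∈ wList, cMulWith e₁ e₂ e₃ 10 B = cMulWith e₁ e₂ e₃ w (cMulWith e₁ e₂ e₃ B 10) →
    ∀ C ∈ c5List, 32 ≤ C → B / 32 ≠ C / 32 → cMulWith e₁ e₂ e₃ C C = 0 →
    cMulWith e₁ e₂ e₃ B C = cMulWith e₁ e₂ e₃ 5 (cMulWith e₁ e₂ e₃ C B) →
    ∀ w' ∈ wList, cMulWith e₁ e₂ e₃ 1 C = cMulWith e₁ e₂ e₃ w' (cMulWith e₁ e₂ e₃ C 1) → w' = wSwap w →
    ∀ w₃ ∈ wList, cMulWith e₁ e₂ e₃ 10 C = cMulWith e₁ e₂ e₃ w₃ (cMulWith e₁ e₂ e₃ C 10) →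
    ¬(wSwap w₃ = w₃ ∨ wSwap w₃ = qMul w' w₃) := by
  decide +kernel

attribute [local irreducible] dsAct qMul qAut qConj qInv

namespace Ext

variable {z : G} {Q : Subgroup G} {q : ℕ → G} {x y d s : G} {e₁ e₂ e₃ : Bool}
  (E : Ext z Q q x y d s e₁ e₂ e₃)

include E

theorem ds_acts {a b : ℕ} (ha : a < 2) (hb : b < 2) : ActsAs z q (d ^ a * s ^ b) a b := by
  have h0 : ActsAs z q (1 : G) 0 0 := ⟨Commute.one_left z, fun k hk => by
    rw [ds_zero k hk, E.loc.frame.el_gen k hk, one_mul, inv_one, mul_one]⟩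
  interval_cases a <;> interval_cases b <;> simp only [pow_zero, pow_one, one_mul, mul_one]
  exacts [h0, E.sAct, E.dAct, E.loc.acts_comp (by norm_num) (by norm_num) (by norm_num) (by norm_num) E.dAct E.sAct]

theorem ds_conj {a b v : ℕ} (ha : a < 2) (hb : b < 2) (hv : v < 32) :
    d ^ a * s ^ b * qEl z q v = qEl z q (dsAct a b v) * (d ^ a * s ^ b) := by
  have h := E.ds_acts ha hb
  rw [← mul_inv_eq_iff_eq_mul, E.loc.frame.conj_el h.1 (A := (List.range 4).map fun j => dsAct a b (2 ^ j)),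
    ds_aut a ha b hb v hv]
  · intro j hj
    have : 2 ^ j < 32 := by interval_cases j <;> norm_num
    simpa [hj] using ds_lt a ha b hb _ this
  · intro j hj
    simpa [hj] using h.2 j hj

theorem l_conj {l v : ℕ} (hl : l < 36) (hv : v < 32) :
    lEl x y d s l * qEl z q v = qEl z q (lAct l v) * lEl x y d s l ∧ lAct l v < 32 := by
  have ha : l / 9 % 2 < 2 := by omega
  have hb : l / 18 < 2 := by omega
  have e := E.ds_conj ha hb hv
  obtain ⟨e', h'⟩ := E.loc.pow_conj (l % 3) (l / 3 % 3) (ds_lt _ ha _ hb v hv)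
  rw [lAct_eq]
  refine ⟨?_, h'⟩
  unfold lEl
  rw [mul_assoc, e, ← mul_assoc, e', mul_assoc]

theorem bz_comm (e : Bool) {g : G} (hg : Commute g z) : Commute (bEl z e) g := by
  cases e <;> simp [bEl, hg.symm]

theorem ds_pow {a b p r : ℕ} (ha : a < 2) (hb : b < 2) (hp : p < 3) (hr : r < 3) :
    d ^ a * s ^ b * (x ^ p * y ^ r) = x ^ (wAct a b (p, r)).1 * y ^ (wAct a b (p, r)).2 * (d ^ a * s ^ b) := by
  have sx : SemiconjBy s x y := mul_inv_eq_iff_eq_mul.1 E.sx
  have sy : SemiconjBy s y x := mul_inv_eq_iff_eq_mul.1 E.sy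
  have dx : SemiconjBy d x (x * x) := mul_inv_eq_iff_eq_mul.1 E.dx
  have dy : SemiconjBy d y (y * y) := mul_inv_eq_iff_eq_mul.1 E.dy
  have sq : ∀ g : G, g * g * g = 1 → ∀ n < 3, (g * g) ^ n = g ^ ((3 - n) % 3) := by
    intro g hg n hn
    interval_cases n
    · simp
    · simp [pow_two]
    · simp [pow_two, ← mul_assoc, hg]
  have hs : ∀ p r : ℕ, s * (x ^ p * y ^ r) = x ^ r * y ^ p * s := fun p r => by
    rw [((sx.pow_right p).mul_right (sy.pow_right r)).eq, (E.loc.xy.symm.pow_pow p r).eq]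
  have hd : ∀ p < 3, ∀ r < 3, d * (x ^ p * y ^ r) = x ^ ((3 - p) % 3) * y ^ ((3 - r) % 3) * d :=
    fun p hp r hr => by
      rw [((dx.pow_right p).mul_right (dy.pow_right r)).eq, sq x E.loc.x3 p hp, sq y E.loc.y3 r hr]
  interval_cases a <;> interval_cases b <;>
    simp only [wAct, pow_zero, pow_one, one_mul, mul_one, if_true, show ((0 : ℕ) = 1) = False by simp, if_false]
  · exact hs p r
  · exact hd p hp r hr
  · rw [mul_assoc, hs, ← mul_assoc, hd r hr p hp, mul_assoc]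

theorem ds_mul {a b a' b' : ℕ} (ha : a < 2) (hb : b < 2) (ha' : a' < 2) (hb' : b' < 2) :
    d ^ a * s ^ b * (d ^ a' * s ^ b') = bEl z (Bool.xor (Bool.xor (a == 1 && a' == 1 && e₁)
      (b == 1 && b' == 1 && e₂)) (b == 1 && a' == 1 && e₃)) * (d ^ ((a + a') % 2) * s ^ ((b + b') % 2)) := by
  have dz := E.dAct.1
  have sz := E.sAct.1
  have h1 : d ^ a * d ^ a' = d ^ ((a + a') % 2) * bEl z (a == 1 && a' == 1 && e₁) := by
    interval_cases a <;> interval_cases a' <;> simp [bEl, E.dd]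
  have h2 : s ^ b * s ^ b' = s ^ ((b + b') % 2) * bEl z (b == 1 && b' == 1 && e₂) := by
    interval_cases b <;> interval_cases b' <;> simp [bEl, E.ss]
  have h3 : s ^ b * d ^ a' = d ^ a' * s ^ b * bEl z (b == 1 && a' == 1 && e₃) := by
    interval_cases b <;> interval_cases a' <;> simp [bEl, E.sd]
  set A := (a + a') % 2
  set B := (b + b') % 2
  set z1 := (a == 1 && a' == 1 && e₁)
  set z2 := (b == 1 && b' == 1 && e₂)
  set z3 := (b == 1 && a' == 1 && e₃)
  have hc : ∀ (e : Bool) (n : ℕ), Commute (bEl z e) (d ^ n) ∧ Commute (bEl z e) (s ^ n) := fun e n =>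
    ⟨E.bz_comm e (dz.pow_left n), E.bz_comm e (sz.pow_left n)⟩
  calc d ^ a * s ^ b * (d ^ a' * s ^ b') = d ^ a * (s ^ b * d ^ a') * s ^ b' := by group
    _ = d ^ a * (d ^ a' * s ^ b) * (bEl z z3 * s ^ b') := by rw [h3]; group
    _ = (d ^ a * d ^ a') * (s ^ b * s ^ b') * bEl z z3 := by rw [(hc z3 b').2.eq]; group
    _ = d ^ A * (bEl z z1 * s ^ B) * bEl z z2 * bEl z z3 := by rw [h1, h2]; group
    _ = d ^ A * s ^ B * (bEl z z1 * bEl z z2 * bEl z z3) := by rw [(hc z1 B).2.eq]; group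
    _ = d ^ A * s ^ B * bEl z (Bool.xor (Bool.xor z1 z2) z3) := by rw [E.loc.frame.zb, E.loc.frame.zb]
    _ = _ := (E.bz_comm _ ((dz.pow_left A).mul_left (sz.pow_left B))).eq.symm

theorem el_small {v : ℕ} (hv : v < 32) : cEl z q x y d s v = qEl z q v := by
  simp [cEl, lEl, Nat.mod_eq_of_lt hv, Nat.div_eq_of_lt hv]

theorem el_mul {c c' : ℕ} (hc : c < 1152) (hc' : c' < 1152) :
    cMulWith e₁ e₂ e₃ c c' < 1152 ∧
      cEl z q x y d s c * cEl z q x y d s c' = cEl z q x y d s (cMulWith e₁ e₂ e₃ c c') := by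
  have F := E.loc.frame
  have hl : c / 32 < 36 := by omega
  have hm : c' / 32 < 36 := by omega
  set l := c / 32 with hldef
  set m := c' / 32 with hmdef
  set a := l / 9 % 2 with hadef
  set b := l / 18 with hbdef
  set a' := m / 9 % 2 with ha'def
  set b' := m / 18 with hb'def
  set u := c % 32 with hudef
  set u' := c' % 32 with hu'def
  set pr := wAct a b (m % 3, m / 3 % 3) with hpr
  set zb := Bool.xor (Bool.xor (a == 1 && a' == 1 && e₁) (b == 1 && b' == 1 && e₂)) (b == 1 && a' == 1 && e₃)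
  set P := (l % 3 + pr.1) % 3
  set R := (l / 3 % 3 + pr.2) % 3
  set A := (a + a') % 2
  set B := (b + b') % 2
  have hP : P < 3 := Nat.mod_lt _ (by norm_num)
  have hR : R < 3 := Nat.mod_lt _ (by norm_num)
  have hA : A < 2 := Nat.mod_lt _ (by norm_num)
  have hB : B < 2 := Nat.mod_lt _ (by norm_num)
  have hval : cMulWith e₁ e₂ e₃ c c' =
      qMul (qMul u (lAct l u')) (if zb then 16 else 0) + 32 * (P + 3 * R + 9 * A + 18 * B) := rfl
  rw [hval]
  have hV := qMul_lt (qMul u (lAct l u')) (if zb then 16 else 0)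
  set V := qMul (qMul u (lAct l u')) (if zb then 16 else 0) with hVdef
  refine ⟨by omega, ?_⟩
  obtain ⟨e1, h1⟩ := E.l_conj (v := u') hl (by omega)
  have hzb : qEl z q (if zb then 16 else 0) = bEl z zb := by
    cases zb <;> simp [bEl, F.el_zero, F.el_top]
  have eP : x ^ (l % 3) * x ^ pr.1 = x ^ P := by
    rw [← pow_add, pow_eq_pow_mod _ (show x ^ 3 = 1 by simpa [pow_succ] using E.loc.x3)]
  have eR : y ^ (l / 3 % 3) * y ^ pr.2 = y ^ R := by
    rw [← pow_add, pow_eq_pow_mod _ (show y ^ 3 = 1 by simpa [pow_succ] using E.loc.y3)]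
  have eD := E.ds_mul (a := a) (b := b) (a' := a') (b' := b') (by omega) (by omega) (by omega) (by omega)
  have eX := E.ds_pow (a := a) (b := b) (p := m % 3) (r := m / 3 % 3) (by omega) (by omega) (by omega) (by omega)
  rw [← hpr] at eX
  have d32 : (V + 32 * (P + 3 * R + 9 * A + 18 * B)) % 32 = V := by omega
  have q32 : (V + 32 * (P + 3 * R + 9 * A + 18 * B)) / 32 = P + 3 * R + 9 * A + 18 * B := by omega
  have q1 : (P + 3 * R + 9 * A + 18 * B) % 3 = P := by omega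
  have q2 : (P + 3 * R + 9 * A + 18 * B) / 3 % 3 = R := by omega
  have q3 : (P + 3 * R + 9 * A + 18 * B) / 9 % 2 = A := by omega
  have q4 : (P + 3 * R + 9 * A + 18 * B) / 18 = B := by omega
  have target : cEl z q x y d s (V + 32 * (P + 3 * R + 9 * A + 18 * B)) =
      qEl z q V * (x ^ P * y ^ R * (d ^ A * s ^ B)) := by
    simp only [cEl, lEl, d32, q32, q1, q2, q3, q4]
  rw [target, hVdef, ← F.el_mul (qMul_lt _ _) (by split_ifs <;> norm_num), ← F.el_mul (by omega) h1, hzb]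
  show qEl z q u * lEl x y d s l * (qEl z q u' * lEl x y d s m) = _
  have hz : Commute (bEl z zb) (x ^ P * y ^ R) := E.bz_comm _ (E.loc.pow_z P R)
  have hyx : Commute (y ^ (l / 3 % 3)) (x ^ pr.1) := E.loc.xy.symm.pow_pow _ _
  set X := x ^ (l % 3) * y ^ (l / 3 % 3) with hX
  set D := d ^ a * s ^ b with hD
  have eXX : X * (x ^ pr.1 * y ^ pr.2) = x ^ P * y ^ R := by
    rw [← eP, ← eR, hX]
    calc _ = x ^ (l % 3) * (y ^ (l / 3 % 3) * x ^ pr.1) * y ^ pr.2 := by group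
      _ = _ := by rw [hyx.eq]; group
  have hlX : lEl x y d s l = X * D := rfl
  calc qEl z q u * lEl x y d s l * (qEl z q u' * lEl x y d s m)
      = qEl z q u * (lEl x y d s l * qEl z q u') * lEl x y d s m := by group
    _ = qEl z q u * qEl z q (lAct l u') * X * (D * (x ^ (m % 3) * y ^ (m / 3 % 3))) * (d ^ a' * s ^ b') := by
        rw [e1, hlX]; simp only [lEl, ← ha'def, ← hb'def]; group
    _ = qEl z q u * qEl z q (lAct l u') * (X * (x ^ pr.1 * y ^ pr.2)) * (D * (d ^ a' * s ^ b')) := by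
        rw [eX]; group
    _ = qEl z q u * qEl z q (lAct l u') * (x ^ P * y ^ R * bEl z zb) * (d ^ A * s ^ B) := by
        rw [eXX, eD]; simp only [zb, A, B]; group
    _ = _ := by rw [← hz.eq]; group

theorem el_mem {c : ℕ} (_hc : c < 1152) : cEl z q x y d s c ∈ centralizer ({z} : Set G) :=
  mem_centralizer_singleton_iff.2 ((E.loc.comm_z (by omega : c % 32 < 32)).mul_left
    ((E.loc.pow_z _ _).mul_left ((E.dAct.1.pow_left _).mul_left (E.sAct.1.pow_left _)))).eq

theorem el_inj {c c' : ℕ} (hc : c < 1152) (hc' : c' < 1152) (h : cEl z q x y d s c = cEl z q x y d s c') :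
    c = c' := by
  have F := E.loc.frame
  have key : ∀ {c : ℕ}, c < 1152 → ∀ v < 32,
      cEl z q x y d s c * qEl z q v * (cEl z q x y d s c)⁻¹ = qEl z q (qConj (c % 32) (lAct (c / 32) v)) ∧
        lAct (c / 32) v < 32 := fun {c} hc v hv => by
    obtain ⟨e, h'⟩ := E.l_conj (l := c / 32) (by omega) hv
    refine ⟨?_, h'⟩
    rw [← F.el_conj (by omega) h', cEl]
    calc _ = qEl z q (c % 32) * (lEl x y d s (c / 32) * qEl z q v) * (lEl x y d s (c / 32))⁻¹ *
          (qEl z q (c % 32))⁻¹ := by group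
      _ = _ := by rw [e]; group
  have hl : c / 32 = c' / 32 := by
    refine sig_inj _ (by omega) _ (by omega) fun k hk => ?_
    have hp : 2 ^ k < 32 := by interval_cases k <;> norm_num
    obtain ⟨e, l1⟩ := key hc _ hp
    obtain ⟨e', l2⟩ := key hc' _ hp
    rw [h, e'] at e
    have := congrArg (· % 16) (F.el_inj (qConj_lt _ _) (qConj_lt _ _) e)
    simp only [conj_mod _ (by omega : c % 32 < 32) _ l1, conj_mod _ (by omega : c' % 32 < 32) _ l2] at this
    exact this.symm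
  simp only [cEl, hl, mul_left_inj] at h
  have := F.el_inj (by omega) (by omega) h
  omega

theorem el_surj {g : G} (hg : g ∈ centralizer ({z} : Set G)) : ∃ c < 1152, cEl z q x y d s c = g := by
  have : Finite ↥(centralizer ({z} : Set G)) := Nat.finite_of_card_ne_zero (by rw [E.loc.cardC]; norm_num)
  let f : Fin 1152 → ↥(centralizer ({z} : Set G)) := fun c => ⟨_, E.el_mem c.2⟩
  have hf : Function.Injective f := fun a b e => Fin.ext (E.el_inj a.2 b.2 (congrArg Subtype.val e))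
  obtain ⟨c, hc⟩ := ((Nat.bijective_iff_injective_and_card f).2
    ⟨hf, by rw [E.loc.cardC, Nat.card_fin]⟩).2 ⟨g, hg⟩
  exact ⟨c, c.2, congrArg Subtype.val hc⟩

/-- The three bits are determined. -/
theorem bits_eq {b c : G} (P : Pair z q b c) (hb : ∀ a < 32, b ≠ qEl z q a) (hc : ∀ a < 32, c ≠ qEl z q a)
    (hbc : ∀ a < 32, b ≠ c * qEl z q a) : e₁ = true ∧ e₂ = false ∧ e₃ = true := by
  by_contra hne
  have F := E.loc.frame
  obtain ⟨B, hB, eB⟩ := E.el_surj (mem_centralizer_singleton_iff.2 P.bz.eq)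
  obtain ⟨C, hC, eC⟩ := E.el_surj (mem_centralizer_singleton_iff.2 P.cz.eq)
  have e5 : cEl z q x y d s 5 = qEl z q 5 := E.el_small (by norm_num)
  have tr : ∀ {u v w : ℕ}, u < 1152 → v < 1152 → w < 1152 →
      cEl z q x y d s u * cEl z q x y d s v = cEl z q x y d s w → cMulWith e₁ e₂ e₃ u v = w := fun hu hv hw e =>
    E.el_inj (E.el_mul hu hv).1 hw ((E.el_mul hu hv).2.symm.trans e)
  have com5 : ∀ {C : ℕ} {g : G}, C < 1152 → cEl z q x y d s C = g → Commute g (qEl z q 5) → C ∈ c5List := by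
    intro C g hC eC h
    refine c5_mem C hC ?_
    have e1 : ∀ e₁ e₂ e₃, cMulWith e₁ e₂ e₃ C 5 = cMulWith false false false C 5 := fun _ _ _ => by
      simp [cMulWith]
    have e2 : ∀ e₁ e₂ e₃, cMulWith e₁ e₂ e₃ 5 C = cMulWith false false false 5 C := fun _ _ _ => by
      simp [cMulWith]
    rw [← e1 e₁ e₂ e₃, ← e2 e₁ e₂ e₃]
    refine tr hC (by norm_num) (E.el_mul (by norm_num) hC).1 ?_
    rw [← (E.el_mul (by norm_num) hC).2, e5, eC, h.eq]
  have twist : ∀ {a w C : ℕ} {g : G}, a < 32 → w < 32 → C < 1152 → cEl z q x y d s C = g →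
      qEl z q a * g * (qEl z q a)⁻¹ * g⁻¹ = qEl z q w →
      cMulWith e₁ e₂ e₃ a C = cMulWith e₁ e₂ e₃ w (cMulWith e₁ e₂ e₃ C a) := by
    intro a w C g ha hw hC eC h
    have h1 := E.el_mul hC (show a < 1152 by omega)
    have h2 := E.el_mul (show w < 1152 by omega) h1.1
    refine tr (by omega) hC h2.1 ?_
    rw [← h2.2, ← h1.2, E.el_small ha, E.el_small hw, eC]
    rw [mul_inv_eq_iff_eq_mul, mul_inv_eq_iff_eq_mul, mul_assoc] at h
    exact h
  have big : ∀ {C : ℕ} {g : G}, cEl z q x y d s C = g → (∀ a < 32, g ≠ qEl z q a) → 32 ≤ C := fun {C g} e h => by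
    by_contra hlt
    exact h C (by omega) (e.symm.trans (E.el_small (by omega)))
  have wl : ∀ w ∈ wList, w < 32 := by decide +kernel
  have q0 : qEl z q 1 = q 0 := F.el_gen 0 (by norm_num)
  obtain ⟨w₁, hw₁, t₁⟩ := P.trivB 1 (by norm_num) (by decide +kernel)
  obtain ⟨w, hw, t⟩ := P.trivB 10 (by norm_num) (by decide +kernel)
  obtain ⟨w', hw', t'⟩ := P.trivC 1 (by norm_num) (by decide +kernel)
  obtain ⟨w₃, hw₃, t₃⟩ := P.trivC 10 (by norm_num) (by decide +kernel)
  have BC := E.el_mul hC hB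
  refine excl e₁ e₂ e₃ hne B (com5 hB eB P.bu) (big eB hb)
    (tr hB hB (by norm_num) (by rw [eB, e5, P.bb]))
    w₁ hw₁ (twist (by norm_num) (wl _ hw₁) hB eB t₁) (P.swap1 w₁ hw₁ (q0 ▸ t₁))
    w hw (twist (by norm_num) (wl _ hw) hB eB t)
    C (com5 hC eC P.cu) (big eC hc) ?_
    (tr hC hC (by norm_num) (by rw [eC, E.el_small (by norm_num), F.el_zero, P.cc]))
    ?_ w' hw' (twist (by norm_num) (wl _ hw') hC eC t') (P.swap2 w hw w' hw' t (q0 ▸ t'))
    w₃ hw₃ (twist (by norm_num) (wl _ hw₃) hC eC t₃) (P.swap3 w₃ hw₃ w' hw' t₃ (q0 ▸ t'))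
  · intro hl
    have hBC : b = qEl z q (B % 32) * (qEl z q (C % 32))⁻¹ * c := by
      rw [← eB, ← eC, cEl, cEl, hl]
      group
    have hm := E.loc.conjQ c⁻¹ P.cz.inv_left _
      (mul_mem (E.loc.mem (by omega : B % 32 < 32)) (inv_mem (E.loc.mem (by omega : C % 32 < 32))))
    obtain ⟨a, ha, e⟩ := (E.loc.hQ _).1 hm
    refine hbc a ha ?_
    rw [e, hBC]
    group
  · refine tr hB hC (E.el_mul (by norm_num) BC.1).1 ?_
    rw [← (E.el_mul (by norm_num) BC.1).2, ← BC.2, e5, eB, eC]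
    have h := P.bc
    rw [mul_inv_eq_iff_eq_mul, mul_inv_eq_iff_eq_mul, mul_assoc] at h
    exact h

end Ext

end CfsgLib.UFourType.Coords
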