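import Mathlib.Data.Nat.Bitwise
import Mathlib.Data.List.Range

/-!
Codes of the centraliser of an involution of U₄(3) type.

The bits 0, 1 of a code `v < 32` stand for the two generators of the first quaternion factor, 2, 3 for those of the
second and 4 for the central involution. A code of the centraliser is `v + 32 * l` with `l = p + 3 r + 9 a + 18 b`,
standing for `q x₁ ^ p x₂ ^ r d ^ a s ^ b`.
-/

set_option autoImplicit false

namespace CfsgLib.UFourType.Coords

/-- The correction in the product of two codes. -/
def qCorr (v w : ℕ) : Bool :=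
  Bool.xor (Bool.xor (Bool.xor (v.testBit 0 && w.testBit 0) (v.testBit 1 && w.testBit 1))
      (Bool.xor (v.testBit 1 && w.testBit 0) (v.testBit 2 && w.testBit 2)))
    (Bool.xor (v.testBit 3 && w.testBit 3) (v.testBit 3 && w.testBit 2))

/-- The product of two codes. -/
def qMul (v w : ℕ) : ℕ :=
  ((v ^^^ w) % 16) + (if Bool.xor (Bool.xor (v.testBit 4) (w.testBit 4)) (qCorr v w) then 16 else 0)

/-- The code with the bit, or zero. -/
def qBit (v i c : ℕ) : ℕ := if v.testBit i then c else 0

/-- The image of a code under the map given by the images of the four generators. -/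
def qAut (im : List ℕ) (v : ℕ) : ℕ :=
  qMul (qMul (qMul (qMul (qBit v 0 (im.getD 0 0)) (qBit v 1 (im.getD 1 0))) (qBit v 2 (im.getD 2 0)))
    (qBit v 3 (im.getD 3 0))) (qBit v 4 16)

/-- The inverse of a code. -/
def qInv (v : ℕ) : ℕ := if qMul v v == 0 then v else qMul v 16

/-- The conjugate of the second code by the first. -/
def qConj (v w : ℕ) : ℕ := qMul (qMul v w) (qInv v)

/-- The commutator of two codes. -/
def qCom (v w : ℕ) : ℕ := qMul (qMul v w) (qMul (qInv v) (qInv w))

/-- The images under the element of order three of the first factor. -/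
def imX : List ℕ := [2, 3, 4, 8]

/-- The images under the element of order three of the second factor. -/
def imY : List ℕ := [1, 2, 8, 12]

/-- The images under the element inverting both elements of order three. -/
def imD : List ℕ := [17, 19, 20, 28]

/-- The images under the element exchanging the factors. -/
def imS : List ℕ := [4, 8, 1, 2]

/-- Iterate a map. -/
def rep {α : Type} (g : α → α) : ℕ → α → α
  | 0, x => x
  | n + 1, x => g (rep g n x)

/-- The action of a class on the codes of the normal subgroup. -/
def lAct (l v : ℕ) : ℕ :=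
  rep (qAut imX) (l % 3) (rep (qAut imY) (l / 3 % 3) (rep (qAut imD) (l / 9 % 2) (rep (qAut imS) (l / 18) v)))

/-- The action on the pairs of exponents of the elements of order three. -/
def wAct (a b : ℕ) (pr : ℕ × ℕ) : ℕ × ℕ :=
  let qr := if b = 1 then (pr.2, pr.1) else pr
  if a = 1 then ((3 - qr.1) % 3, (3 - qr.2) % 3) else qr

/-- The product of two codes of the centraliser, with the squares `e₁`, `e₂` of `d`, `s` and their commutator
`e₃`. -/
def cMulWith (e₁ e₂ e₃ : Bool) (c d : ℕ) : ℕ :=
  let l := c / 32; let m := d / 32
  let a := l / 9 % 2; let b := l / 18; let a' := m / 9 % 2; let b' := m / 18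
  let pr := wAct a b (m % 3, m / 3 % 3)
  let zb := Bool.xor (Bool.xor (a == 1 && a' == 1 && e₁) (b == 1 && b' == 1 && e₂)) (b == 1 && a' == 1 && e₃)
  qMul (qMul (c % 32) (lAct l (d % 32))) (if zb then 16 else 0) +
    32 * ((l % 3 + pr.1) % 3 + 3 * ((l / 3 % 3 + pr.2) % 3) + 9 * ((a + a') % 2) + 18 * ((b + b') % 2))

/-- The product of two codes of the centraliser. -/
def cMul (c d : ℕ) : ℕ := cMulWith true false true c d

theorem qMul_lt (v w : ℕ) : qMul v w < 32 := by
  unfold qMul
  split_ifs <;> omega

theorem qAut_lt (im : List ℕ) (v : ℕ) : qAut im v < 32 := qMul_lt _ _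

end CfsgLib.UFourType.Coords
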