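import Cfsg.Agent.Lib.UFourType.Coords.Swap

/-!
# The elements outside the product of the two factors, and the coded elements
-/

set_option autoImplicit false
set_option linter.unusedSectionVars false
set_option maxRecDepth 100000

namespace CfsgLib.UFourType.Coords

open Subgroup

variable {G : Type*} [Group G]

/-- The action of the class `d ^ a * s ^ b`. -/
def dsAct (a b v : ℕ) : ℕ := rep (qAut imD) a (rep (qAut imS) b v)

/-- The element acts on the normal subgroup as `d ^ a * s ^ b`. -/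
def ActsAs (z : G) (q : ℕ → G) (h : G) (a b : ℕ) : Prop :=
  Commute h z ∧ ∀ k < 4, h * q k * h⁻¹ = qEl z q (dsAct a b (2 ^ k))

theorem ds_lt : ∀ a < 2, ∀ b < 2, ∀ v < 32, dsAct a b v < 32 := by decide +kernel

theorem ds_comp : ∀ a < 2, ∀ b < 2, ∀ a' < 2, ∀ b' < 2, ∀ k < 4,
    qAut ((List.range 4).map fun j => dsAct a b (2 ^ j)) (dsAct a' b' (2 ^ k)) =
      dsAct ((a + a') % 2) ((b + b') % 2) (2 ^ k) := by decide +kernel

theorem classify : ∀ w ∈ wList, ∀ w' ∈ wList, ∀ j < 32, qMul (qMul w 1) (qMul w 1) = 16 → qMul j j = 16 →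
    qMul j (qMul w 1) = qMul (qMul (qMul w 1) j) 16 →
    qMul (qMul (qInv (qMul w 1)) 5) (qMul w 1) = qMul (qMul w 1) (qMul (qInv (qMul w 1)) 5) →
    qMul (qMul (qInv j) (qMul w' 10)) (qMul (qInv j) (qMul w' 10)) = 16 →
    qMul j (qMul (qInv j) (qMul w' 10)) = qMul (qMul (qInv j) (qMul w' 10)) j →
    qMul (qMul w 1) (qMul (qInv j) (qMul w' 10)) = qMul (qMul (qInv j) (qMul w' 10)) (qMul w 1) →
    qMul j (qMul (qInv (qMul w 1)) 5) = qMul (qMul (qInv (qMul w 1)) 5) j →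
    ∃ v < 32, ∃ a < 2, ∃ b < 2,
      qConj v (dsAct a b 1) = qMul w 1 ∧ qConj v (dsAct a b 2) = j ∧
        qConj v (dsAct a b 4) = qMul (qInv (qMul w 1)) 5 ∧ qConj v (dsAct a b 8) = qMul (qInv j) (qMul w' 10) := by
  decide +kernel

namespace Loc

variable {z : G} {Q : Subgroup G} {q : ℕ → G} {x y : G} (L : Loc z Q q x y)

include L

theorem same_act {g h : G} (hg : Commute g z) (hh : Commute h z)
    (e : ∀ k < 4, g * q k * g⁻¹ = h * q k * h⁻¹) : ∃ w, (w = 1 ∨ w = z) ∧ g = h * w := by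
  have hc : Commute (h⁻¹ * g) z := hh.inv_left.mul_left hg
  have hq : ∀ k < 4, Commute (h⁻¹ * g) (q k) := fun k hk => by
    show h⁻¹ * g * q k = q k * (h⁻¹ * g)
    calc h⁻¹ * g * q k = h⁻¹ * (g * q k * g⁻¹) * g := by group
      _ = _ := by rw [e k hk]; group
  obtain ⟨v, hv, ev⟩ := L.cent _ hc hq
  have key : ∀ v < 32, (∀ k < 4, qMul v (2 ^ k) = qMul (2 ^ k) v) → v = 0 ∨ v = 16 := by decide +kernel
  refine ⟨qEl z q v, ?_, by rw [ev, mul_inv_cancel_left]⟩
  rcases key v hv (fun k hk => by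
      have hp : 2 ^ k < 32 := by interval_cases k <;> norm_num
      refine L.frame.el_inj (qMul_lt _ _) (qMul_lt _ _) ?_
      rw [← L.frame.el_mul hv hp, ← L.frame.el_mul hp hv, L.frame.el_gen k hk, ev]
      exact (hq k hk).eq) with rfl | rfl
  · exact Or.inl L.frame.el_zero
  · exact Or.inr L.frame.el_top

theorem acts_comp {g h : G} {a b a' b' : ℕ} (ha : a < 2) (hb : b < 2) (ha' : a' < 2) (hb' : b' < 2)
    (hg : ActsAs z q g a b) (hh : ActsAs z q h a' b') : ActsAs z q (g * h) ((a + a') % 2) ((b + b') % 2) := by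
  refine ⟨hg.1.mul_left hh.1, fun k hk => ?_⟩
  have hp : 2 ^ k < 32 := by interval_cases k <;> norm_num
  rw [show g * h * q k * (g * h)⁻¹ = g * (h * q k * h⁻¹) * g⁻¹ by group, hh.2 k hk,
    L.frame.conj_el hg.1 (A := (List.range 4).map fun j => dsAct a b (2 ^ j))]
  · rw [ds_comp a ha b hb a' ha' b' hb' k hk]
  · intro j hj
    have : 2 ^ j < 32 := by interval_cases j <;> norm_num
    simpa [hj] using ds_lt a ha b hb _ this
  · intro j hj
    simpa [hj] using hg.2 j hj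

/-- An element of the conjugate subgroup acts as one of the four classes, up to the normal subgroup. -/
theorem act_class {b : G} (hz : Commute b z) (hu : Commute b (qEl z q 5))
    (htriv : ∀ a < 32, qMul a 5 = qMul 5 a → ∃ w ∈ wList, qEl z q a * b * (qEl z q a)⁻¹ * b⁻¹ = qEl z q w) :
    ∃ v < 32, ∃ a < 2, ∃ a' < 2, ActsAs z q (qEl z q v * b) a a' := by
  have F := L.frame
  have hwl : ∀ w ∈ wList, w < 32 ∧ qInv w = w := by decide +kernel
  have img : ∀ v < 32, ∃ u < 32, b * qEl z q v * b⁻¹ = qEl z q u := fun v hv => by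
    obtain ⟨u, hu', e⟩ := (L.hQ _).1 (L.conjQ b hz _ (L.mem hv))
    exact ⟨u, hu', e.symm⟩
  have onA : ∀ a < 32, qMul a 5 = qMul 5 a → ∃ w ∈ wList, b * qEl z q a * b⁻¹ = qEl z q (qMul w a) := by
    intro a ha h5
    obtain ⟨w, hw, e⟩ := htriv a ha h5
    refine ⟨w, hw, ?_⟩
    rw [← F.el_mul (hwl w hw).1 ha, ← (hwl w hw).2, F.el_inv (hwl w hw).1, ← e]
    group
  obtain ⟨w, hw, e1⟩ := onA 1 (by norm_num) (by decide +kernel)
  obtain ⟨w', hw', e10⟩ := onA 10 (by norm_num) (by decide +kernel)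
  obtain ⟨j, hj, e2⟩ := img 2 (by norm_num)
  have e5 : b * qEl z q 5 * b⁻¹ = qEl z q 5 := by rw [hu.eq, mul_inv_cancel_right]
  have hI : qMul w 1 < 32 := qMul_lt _ _
  have cm : ∀ {u v : ℕ}, u < 32 → v < 32 → ∀ {u' v' : ℕ}, u' < 32 → v' < 32 → b * qEl z q u * b⁻¹ = qEl z q u' →
      b * qEl z q v * b⁻¹ = qEl z q v' → b * qEl z q (qMul u v) * b⁻¹ = qEl z q (qMul u' v') := by
    intro u v hu hv u' v' hu' hv' eu ev
    rw [← F.el_mul hu hv, ← F.el_mul hu' hv', ← eu, ← ev]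
    group
  have inj : ∀ {u v : ℕ}, u < 32 → v < 32 → ∀ {u' v' : ℕ}, u' < 32 → v' < 32 → b * qEl z q u * b⁻¹ = qEl z q u' →
      b * qEl z q v * b⁻¹ = qEl z q v' → u = v → u' = v' := by
    rintro u v hu hv u' v' hu' hv' eu ev rfl
    exact F.el_inj hu' hv' (eu.symm.trans ev)
  have e0 : b * qEl z q (qInv 1) * b⁻¹ = qEl z q (qInv (qMul w 1)) := by
    rw [F.el_inv (by norm_num), F.el_inv hI, ← e1]; group
  have e2i : b * qEl z q (qInv 2) * b⁻¹ = qEl z q (qInv j) := by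
    rw [F.el_inv (by norm_num), F.el_inv hj, ← e2]; group
  have qi : ∀ v < 32, qInv v < 32 := fun v hv => (zero_mul_table v hv).2.2.2.2
  have e4 : b * qEl z q 4 * b⁻¹ = qEl z q (qMul (qInv (qMul w 1)) 5) := by
    have := cm (qi 1 (by norm_num)) (by norm_num : 5 < 32) (qi _ hI) (by norm_num) e0 e5
    rwa [show qMul (qInv 1) 5 = 4 by decide +kernel] at this
  have e8 : b * qEl z q 8 * b⁻¹ = qEl z q (qMul (qInv j) (qMul w' 10)) := by
    have := cm (qi 2 (by norm_num)) (by norm_num : 10 < 32) (qi _ hj) (qMul_lt _ _) e2i e10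
    rwa [show qMul (qInv 2) 10 = 8 by decide +kernel] at this
  have e16 : b * qEl z q 16 * b⁻¹ = qEl z q 16 := by rw [F.el_top, hz.eq, mul_inv_cancel_right]
  set I := qMul w 1
  set J := qMul (qInv I) 5
  set K := qMul (qInv j) (qMul w' 10)
  have hJ : J < 32 := qMul_lt _ _
  have hK : K < 32 := qMul_lt _ _
  have tr : ∀ {u v u' v' : ℕ} (hu : u < 32) (hv : v < 32) (hu' : u' < 32) (hv' : v' < 32),
      b * qEl z q u * b⁻¹ = qEl z q u' → b * qEl z q v * b⁻¹ = qEl z q v' → qMul u v = qMul v u →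
      qMul u' v' = qMul v' u' := fun hu hv hu' hv' eu ev h =>
    inj (qMul_lt _ _) (qMul_lt _ _) (qMul_lt _ _) (qMul_lt _ _) (cm hu hv hu' hv' eu ev) (cm hv hu hv' hu' ev eu) h
  obtain ⟨v, hv, a, ha, a', ha', t1, t2, t4, t8⟩ := classify w hw w' hw' j hj
    (inj (qMul_lt _ _) (by norm_num) (qMul_lt _ _) (by norm_num)
      (cm (u := 1) (v := 1) (by norm_num) (by norm_num) hI hI e1 e1) e16 (by decide +kernel))
    (inj (qMul_lt _ _) (by norm_num) (qMul_lt _ _) (by norm_num)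
      (cm (u := 2) (v := 2) (by norm_num) (by norm_num) hj hj e2 e2) e16 (by decide +kernel))
    (inj (qMul_lt _ _) (qMul_lt _ _) (qMul_lt _ _) (qMul_lt _ _)
      (cm (u := 2) (v := 1) (by norm_num) (by norm_num) hj hI e2 e1)
      (cm (qMul_lt _ _) (by norm_num : 16 < 32) (qMul_lt _ _) (by norm_num)
        (cm (u := 1) (v := 2) (by norm_num) (by norm_num) hI hj e1 e2) e16) (by decide +kernel))
    (tr (u := 4) (v := 1) (by norm_num) (by norm_num) hJ hI e4 e1 (by decide +kernel))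
    (inj (qMul_lt _ _) (by norm_num) (qMul_lt _ _) (by norm_num)
      (cm (u := 8) (v := 8) (by norm_num) (by norm_num) hK hK e8 e8) e16 (by decide +kernel))
    (tr (u := 2) (v := 8) (by norm_num) (by norm_num) hj hK e2 e8 (by decide +kernel))
    (tr (u := 1) (v := 8) (by norm_num) (by norm_num) hI hK e1 e8 (by decide +kernel))
    (tr (u := 2) (v := 4) (by norm_num) (by norm_num) hj hJ e2 e4 (by decide +kernel))
  refine ⟨qInv v, qi v hv, a, ha, a', ha', (L.comm_z (qi v hv)).mul_left hz, fun k hk => ?_⟩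
  have hd : dsAct a a' (2 ^ k) < 32 := ds_lt a ha a' ha' _ (by interval_cases k <;> norm_num)
  have e : b * qEl z q (2 ^ k) * b⁻¹ = qEl z q (qConj v (dsAct a a' (2 ^ k))) := by
    interval_cases k
    exacts [e1.trans (congrArg (qEl z q) t1.symm), e2.trans (congrArg (qEl z q) t2.symm),
      e4.trans (congrArg (qEl z q) t4.symm), e8.trans (congrArg (qEl z q) t8.symm)]
  rw [← F.el_conj hv hd, F.el_gen k hk] at e
  rw [show qEl z q (qInv v) * b * q k * (qEl z q (qInv v) * b)⁻¹ =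
    qEl z q (qInv v) * (b * q k * b⁻¹) * (qEl z q (qInv v))⁻¹ by group, e, F.el_inv hv]
  group

end Loc

/-- The extra elements with their squares and commutator. -/
structure Ext (z : G) (Q : Subgroup G) (q : ℕ → G) (x y d s : G) (e₁ e₂ e₃ : Bool) : Prop where
  loc : Loc z Q q x y
  dAct : ActsAs z q d 1 0
  sAct : ActsAs z q s 0 1
  dd : d * d = bEl z e₁
  ss : s * s = bEl z e₂
  sd : s * d = d * s * bEl z e₃
  dx : d * x * d⁻¹ = x * x
  dy : d * y * d⁻¹ = y * y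
  sx : s * x * s⁻¹ = y
  sy : s * y * s⁻¹ = x

set_option maxHeartbeats 800000 in
theorem Loc.exists_ext {z : G} {Q : Subgroup G} {q : ℕ → G} {x y : G} (L : Loc z Q q x y) {b c : G}
    (P : Pair z q b c) (hb : ∀ a < 32, b ≠ qEl z q a) (hc : ∀ a < 32, c ≠ qEl z q a)
    (hbc : ∀ a < 32, b ≠ c * qEl z q a) : ∃ d s e₁ e₂ e₃, Ext z Q q x y d s e₁ e₂ e₃ := by
  have F := L.frame
  obtain ⟨v, hv, a, ha, a', ha', hB⟩ := L.act_class P.bz P.bu P.trivB
  obtain ⟨v', hv', c', hc1, c'', hc2, hC⟩ := L.act_class P.cz P.cu P.trivC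
  have ds0 : ∀ k < 4, dsAct 0 0 (2 ^ k) = 2 ^ k := fun k _ => rfl
  have zero : ∀ {h : G}, ActsAs z q h 0 0 → ∃ u < 32, qEl z q u = h := fun {h} hh =>
    L.cent h hh.1 fun k hk => by
      have e := hh.2 k hk
      rw [ds0 k hk, F.el_gen k hk, mul_inv_eq_iff_eq_mul] at e
      exact e
  have nb : ¬ (a = 0 ∧ a' = 0) := by
    rintro ⟨rfl, rfl⟩
    obtain ⟨u, hu, e⟩ := zero hB
    refine hb (qMul (qInv v) u) (qMul_lt _ _) ?_
    rw [← F.el_mul (zero_mul_table v hv).2.2.2.2 hu, F.el_inv hv, e]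
    group
  have nc : ¬ (c' = 0 ∧ c'' = 0) := by
    rintro ⟨rfl, rfl⟩
    obtain ⟨u, hu, e⟩ := zero hC
    refine hc (qMul (qInv v') u) (qMul_lt _ _) ?_
    rw [← F.el_mul (zero_mul_table v' hv').2.2.2.2 hu, F.el_inv hv', e]
    group
  set hB' := qEl z q v * b with hBdef
  set hC' := qEl z q v' * c with hCdef
  have nbc : ¬ (a = c' ∧ a' = c'') := by
    rintro ⟨rfl, rfl⟩
    obtain ⟨w, hw, e⟩ := L.same_act hB.1 hC.1 fun k hk => (hB.2 k hk).trans (hC.2 k hk).symm
    -- the two differ by an element of the normal subgroup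
    obtain ⟨wc, hwc, ew⟩ : ∃ u < 32, qEl z q u = w := by
      rcases hw with rfl | rfl
      exacts [⟨0, by norm_num, F.el_zero⟩, ⟨16, by norm_num, F.el_top⟩]
    have hconj : c⁻¹ * qEl z q (qMul (qInv v) v') * c ∈ Q := by
      simpa using L.conjQ c⁻¹ P.cz.inv_left _ (L.mem (qMul_lt (qInv v) v'))
    obtain ⟨u, hu, eu⟩ := (L.hQ _).1 hconj
    refine hbc (qMul u wc) (qMul_lt _ _) ?_
    rw [← F.el_mul hu hwc, eu, ← F.el_mul (zero_mul_table v hv).2.2.2.2 hv', F.el_inv hv, ew]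
    rw [hBdef, hCdef, ← eq_inv_mul_iff_mul_eq] at e
    rw [e]
    group
  have hP := L.acts_comp ha ha' hc1 hc2 hB hC
  obtain ⟨⟨d, hd⟩, ⟨s, hs⟩⟩ : (∃ d, ActsAs z q d 1 0) ∧ ∃ s, ActsAs z q s 0 1 := by
    interval_cases a <;> interval_cases a' <;> interval_cases c' <;> interval_cases c'' <;>
      first
      | exact absurd ⟨rfl, rfl⟩ nb
      | exact absurd ⟨rfl, rfl⟩ nc
      | exact absurd ⟨rfl, rfl⟩ nbc
      | exact ⟨⟨_, hB⟩, _, hC⟩
      | exact ⟨⟨_, hC⟩, _, hB⟩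
      | exact ⟨⟨_, hB⟩, _, hP⟩
      | exact ⟨⟨_, hC⟩, _, hP⟩
      | exact ⟨⟨_, hP⟩, _, hB⟩
      | exact ⟨⟨_, hP⟩, _, hC⟩
  have bit : ∀ {g h : G}, Commute g z → Commute h z → (∀ k < 4, g * q k * g⁻¹ = h * q k * h⁻¹) →
      ∃ e, g = h * bEl z e := fun {g h} hg hh e => by
    obtain ⟨w, hw, ew⟩ := L.same_act hg hh e
    rcases hw with hw | hw <;> rw [hw] at ew
    exacts [⟨false, ew⟩, ⟨true, ew⟩]
  have mixd := L.acts_comp (by norm_num : 1 < 2) (by norm_num : 0 < 2) (by norm_num) (by norm_num) hd hd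
  have mixs := L.acts_comp (by norm_num : 0 < 2) (by norm_num : 1 < 2) (by norm_num) (by norm_num) hs hs
  have mixsd := L.acts_comp (by norm_num : 0 < 2) (by norm_num : 1 < 2) (by norm_num) (by norm_num) hs hd
  have mixds := L.acts_comp (by norm_num : 1 < 2) (by norm_num : 0 < 2) (by norm_num) (by norm_num) hd hs
  have one_act : ∀ k < 4, (1 : G) * q k * (1 : G)⁻¹ = qEl z q (dsAct 0 0 (2 ^ k)) := fun k hk => by
    rw [ds0 k hk, F.el_gen k hk, one_mul, inv_one, mul_one]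
  obtain ⟨e₁, he₁⟩ := bit mixd.1 (Commute.one_left z) fun k hk => (mixd.2 k hk).trans (one_act k hk).symm
  obtain ⟨e₂, he₂⟩ := bit mixs.1 (Commute.one_left z) fun k hk => (mixs.2 k hk).trans (one_act k hk).symm
  obtain ⟨e₃, he₃⟩ := bit mixsd.1 mixds.1 fun k hk => (mixsd.2 k hk).trans (mixds.2 k hk).symm
  -- conjugates of the elements of order three
  have cube : ∀ {g : G}, Commute g z → g * g * g = 1 → ∀ {h : G}, h * h * h = 1 → Commute h z →
      (∀ k < 4, g * q k * g⁻¹ = h * q k * h⁻¹) → g = h := fun {g} hg g3 {h} h3 hh e => by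
    obtain ⟨w, hw, ew⟩ := L.same_act hg hh e
    rcases hw with hw | hw <;> rw [hw] at ew
    · rw [ew, mul_one]
    · exfalso
      rw [ew] at g3
      apply F.z_ne
      calc z = (z * z) * z * (h * h * h) := by rw [F.zz, one_mul, h3, mul_one]
        _ = h * z * (h * z) * (h * z) := by
          simp only [mul_assoc, hh.symm.left_comm, hh.symm.eq]
        _ = 1 := g3
  have conjpow : ∀ {h : G}, Commute h z → ∀ {A : List ℕ}, (∀ k < 4, A.getD k 0 < 32) →
      (∀ k < 4, h * q k * h⁻¹ = qEl z q (A.getD k 0)) → ∀ k < 4, h * h * q k * (h * h)⁻¹ = qEl z q (qAut A (A.getD k 0)) :=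
    fun {h} hh {A} hA e k hk => by
      rw [← F.conj_el hh hA e, ← e k hk]; group
  have conjBy : ∀ {g h : G} {a b : ℕ}, a < 2 → b < 2 → ActsAs z q g a b → ∀ {A : List ℕ}, Commute h z →
      (∀ k < 4, A.getD k 0 < 32) → (∀ k < 4, h * q k * h⁻¹ = qEl z q (A.getD k 0)) →
      ∀ k < 4, g * h * g⁻¹ * q k * (g * h * g⁻¹)⁻¹ =
        qEl z q (qAut ((List.range 4).map fun j => dsAct a b (2 ^ j)) (qAut A (dsAct a b (2 ^ k)))) := by
    intro g h a b ha hb hg A hh hA e k hk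
    have hinv := L.acts_comp ha hb ha hb hg hg
    have hl : ∀ j < 4, ((List.range 4).map fun j => dsAct a b (2 ^ j)).getD j 0 < 32 := fun j hj => by
      have : 2 ^ j < 32 := by interval_cases j <;> norm_num
      simpa [hj] using ds_lt a ha b hb _ this
    have e' : ∀ j < 4, g * q j * g⁻¹ = qEl z q (((List.range 4).map fun j => dsAct a b (2 ^ j)).getD j 0) :=
      fun j hj => by simpa [hj] using hg.2 j hj
    rw [← F.conj_el hg.1 hl e', ← F.conj_el hh hA e]
    have hgi : g⁻¹ * q k * g = qEl z q (dsAct a b (2 ^ k)) := by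
      have h2 := hinv.2 k hk
      rw [show (a + a) % 2 = 0 by omega, show (b + b) % 2 = 0 by omega, ds0 k hk, F.el_gen k hk] at h2
      rw [← hg.2 k hk]
      conv_lhs => rw [← h2]
      group
    rw [← hgi]
    group
  have lX : ∀ k < 4, imX.getD k 0 < 32 := fun k hk => (imXY_lt k hk).1
  have lY : ∀ k < 4, imY.getD k 0 < 32 := fun k hk => (imXY_lt k hk).2
  have zc : ∀ {g h : G}, Commute g z → Commute h z → Commute (g * h * g⁻¹) z := fun hg hh =>
    (hg.mul_left hh).mul_left hg.inv_left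
  have c3 : ∀ {g h : G}, h * h * h = 1 → (g * h * g⁻¹) * (g * h * g⁻¹) * (g * h * g⁻¹) = 1 := fun {g h} h3 => by
    calc _ = g * (h * h * h) * g⁻¹ := by group
      _ = 1 := by rw [h3, mul_one, mul_inv_cancel]
  have sq3 : ∀ {h : G}, h * h * h = 1 → (h * h) * (h * h) * (h * h) = 1 := fun {h} h3 => by
    calc _ = (h * h * h) * (h * h * h) := by group
      _ = 1 := by rw [h3, mul_one]
  refine ⟨d, s, e₁, e₂, e₃, ⟨L, hd, hs, he₁.trans (one_mul _), he₂.trans (one_mul _), he₃, ?_, ?_, ?_, ?_⟩⟩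
  · refine cube (zc hd.1 L.xz) (c3 L.x3) (sq3 L.x3) (L.xz.mul_left L.xz) fun k hk => ?_
    rw [conjBy (by norm_num) (by norm_num) hd L.xz lX L.conjX k hk, conjpow L.xz lX L.conjX k hk]
    exact congrArg (qEl z q) (by revert k; decide +kernel)
  · refine cube (zc hd.1 L.yz) (c3 L.y3) (sq3 L.y3) (L.yz.mul_left L.yz) fun k hk => ?_
    rw [conjBy (by norm_num) (by norm_num) hd L.yz lY L.conjY k hk, conjpow L.yz lY L.conjY k hk]
    exact congrArg (qEl z q) (by revert k; decide +kernel)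
  · refine cube (zc hs.1 L.xz) (c3 L.x3) L.y3 L.yz fun k hk => ?_
    rw [conjBy (by norm_num) (by norm_num) hs L.xz lX L.conjX k hk, L.conjY k hk]
    exact congrArg (qEl z q) (by revert k; decide +kernel)
  · refine cube (zc hs.1 L.yz) (c3 L.y3) L.x3 L.xz fun k hk => ?_
    rw [conjBy (by norm_num) (by norm_num) hs L.yz lY L.conjY k hk, L.conjX k hk]
    exact congrArg (qEl z q) (by revert k; decide +kernel)

/-- Conjugates of elements of the normal subgroup falling back into it come from the four common elements. -/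
theorem Loc.mem_wList {z : G} {Q : Subgroup G} {q : ℕ → G} {x y : G} (L : Loc z Q q x y) {g : G}
    (hg : g * z * g⁻¹ = qEl z q 5) (hg' : g * qEl z q 5 * g⁻¹ = z)
    (hN : ∀ n, n ∈ Q ⊓ Q.map (MulAut.conj g).toMonoidHom ↔ ∃ w ∈ wList, n = qEl z q w)
    {v : ℕ} (hv : v < 32) (h : g * qEl z q v * g⁻¹ ∈ Q) : v ∈ wList := by
  have F := L.frame
  obtain ⟨w, hw, e⟩ := (hN _).1 ⟨h, mem_map.2 ⟨_, L.mem hv, by simp⟩⟩
  have key : ∀ w ∈ wList, w < 32 ∧ wSwap w ∈ wList ∧ wSwap w < 32 ∧ wSwap (wSwap w) = w := by decide +kernel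
  obtain ⟨hw32, hsW, hs32, hss⟩ := key w hw
  have hsw : g * qEl z q (wSwap w) * g⁻¹ = qEl z q w := by
    simp only [wList, List.mem_cons, List.not_mem_nil, or_false] at hw
    rcases hw with rfl | rfl | rfl | rfl
    · simp [wSwap, F.el_zero]
    · simp [wSwap, hg, F.el_top]
    · simp [wSwap, hg', F.el_top]
    · rw [show wSwap 21 = qMul 5 16 by decide +kernel, show qEl z q 21 = qEl z q (qMul 16 5) by
          rw [show qMul 16 5 = 21 by decide +kernel], ← F.el_mul (by norm_num) (by norm_num),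
        ← F.el_mul (by norm_num) (by norm_num), F.el_top,
        show g * (qEl z q 5 * z) * g⁻¹ = (g * qEl z q 5 * g⁻¹) * (g * z * g⁻¹) by group, hg, hg']
  rw [← hsw, mul_left_inj, mul_right_inj] at e
  rwa [F.el_inj hv hs32 e]

/-- The two conjugated generators lie outside the normal subgroup, in different cosets. -/
theorem Loc.outside {z : G} {Q : Subgroup G} {q : ℕ → G} {x y : G} (L : Loc z Q q x y) {g : G}
    (hg : g * z * g⁻¹ = qEl z q 5) (hg' : g * qEl z q 5 * g⁻¹ = z)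
    (hN : ∀ n, n ∈ Q ⊓ Q.map (MulAut.conj g).toMonoidHom ↔ ∃ w ∈ wList, n = qEl z q w) :
    (∀ a < 32, g * q 0 * g⁻¹ ≠ qEl z q a) ∧ (∀ a < 32, g * qEl z q 10 * g⁻¹ ≠ qEl z q a) ∧
      ∀ a < 32, g * q 0 * g⁻¹ ≠ g * qEl z q 10 * g⁻¹ * qEl z q a := by
  have F := L.frame
  have e1 : qEl z q 1 = q 0 := F.el_gen 0 (by norm_num)
  refine ⟨fun a ha e => ?_, fun a ha e => ?_, fun a ha e => ?_⟩
  · rw [← e1] at e
    exact absurd (L.mem_wList hg hg' hN (by norm_num) (e ▸ L.mem ha)) (by decide)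
  · exact absurd (L.mem_wList hg hg' hN (by norm_num) (e ▸ L.mem ha)) (by decide)
  · have hk : g * qEl z q (qMul (qInv 10) 1) * g⁻¹ = qEl z q a := by
      rw [← F.el_mul (by decide +kernel) (by norm_num), F.el_inv (by norm_num), e1]
      calc g * ((qEl z q 10)⁻¹ * q 0) * g⁻¹ = (g * qEl z q 10 * g⁻¹)⁻¹ * (g * q 0 * g⁻¹) := by group
        _ = qEl z q a := by rw [e]; group
    exact absurd (L.mem_wList hg hg' hN (qMul_lt _ _) (hk ▸ L.mem ha)) (by decide +kernel)

end CfsgLib.UFourType.Coords
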