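import Cfsg.Agent.Lib.UFourType.Basic
import Cfsg.Agent.Lib.UFourType.Coords.Bits
import Cfsg.Agent.Lib.UFourType.Coords.Change

/-!
# The coded centraliser from the defining hypotheses
-/

set_option autoImplicit false
set_option linter.unusedSectionVars false
set_option maxRecDepth 100000

namespace CfsgLib.UFourType.Coords

open Subgroup

/-- The code in the frame. -/
def phi (c : ℕ) : ℕ := uGet phiT 11 (c / 32) (c % 32)

/-- The inverse change. -/
def phiInv (c : ℕ) : ℕ := uGet phiI 11 (c / 32) (c % 32)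

theorem change_ok : ∀ c < 1152, phi c < 1152 ∧ phiInv c < 1152 ∧ phiInv (phi c) = c ∧ phi (phiInv c) = c ∧
    (c < 32 → phi c < 32 ∧ phiInv c < 32) ∧ phi c = cMul (phi (c % 32)) (phi (32 * (c / 32))) := by
  decide +kernel

theorem change_special : phi 0 = 0 ∧ phi 1 = 16 ∧ phi 2 = 5 := by decide +kernel

theorem change_qq : ∀ v < 32, ∀ w < 32, uQ v w < 32 ∧ phi (uQ v w) = cMul (phi v) (phi w) := by
  decide +kernel

theorem change_lq : ∀ l < 36, ∀ w < 32, uGet aTab 5 l w < 32 ∧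
    cMul (phi (32 * l)) (phi w) = cMul (phi (uGet aTab 5 l w)) (phi (32 * l)) := by
  decide +kernel

theorem change_ll : ∀ l < 36, ∀ m < 36, uGet mTab 11 l m < 1152 ∧
    cMul (phi (32 * l)) (phi (32 * m)) = phi (uGet mTab 11 l m) := by
  decide +kernel

variable {G : Type*} [Group G]

/-- The frame with the bits fixed gives the code. -/
theorem Ext.code {z : G} {Q : Subgroup G} {q : ℕ → G} {x y d s : G} (E : Ext z Q q x y d s true false true) :
    Code z (fun c => cEl z q x y d s (phi c)) ∧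
      ∀ g, g ∈ Q ↔ ∃ v < 32, cEl z q x y d s (phi v) = g := by
  have F := E.loc.frame
  set h : ℕ → G := fun c => cEl z q x y d s (phi c) with hdef
  have mul' : ∀ {a b : ℕ}, a < 1152 → b < 1152 → h a * h b = cEl z q x y d s (cMul (phi a) (phi b)) :=
    fun ha hb => (E.el_mul (change_ok _ ha).1 (change_ok _ hb).1).2
  have split : ∀ {c : ℕ}, c < 1152 → h c = h (c % 32) * h (32 * (c / 32)) := fun {c} hc => by
    rw [mul' (by omega) (by omega), ← (change_ok c hc).2.2.2.2.2]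
  have qq : ∀ {v w : ℕ}, v < 32 → w < 32 → h v * h w = h (uQ v w) := fun {v w} hv hw => by
    rw [mul' (by omega) (by omega), ← (change_qq v hv w hw).2]
  have lq : ∀ {l w : ℕ}, l < 36 → w < 32 → h (32 * l) * h w = h (uGet aTab 5 l w) * h (32 * l) :=
    fun {l w} hl hw => by
      rw [mul' (by omega) (by omega), mul' (by have := (change_lq l hl w hw).1; omega) (by omega),
        (change_lq l hl w hw).2]
  have ll : ∀ {l m : ℕ}, l < 36 → m < 36 → h (32 * l) * h (32 * m) = h (uGet mTab 11 l m) :=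
    fun {l m} hl hm => by
      rw [mul' (by omega) (by omega), (change_ll l hl m hm).2]
  obtain ⟨p0, p1, -⟩ := change_special
  refine ⟨⟨?_, fun c c' hc hc' => ?_, fun c hc => E.el_mem (change_ok c hc).1, fun c c' hc hc' e => ?_,
    fun g hg => ?_, ?_⟩, fun g => ?_⟩
  · show cEl z q x y d s (phi 0) = 1
    rw [p0, E.el_small (by norm_num), F.el_zero]
  · have hl : c / 32 < 36 := by omega
    have hm : c' / 32 < 36 := by omega
    have hu : c' % 32 < 32 := Nat.mod_lt _ (by norm_num)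
    obtain ⟨hM, -⟩ := change_ll _ hl _ hm
    obtain ⟨hA, -⟩ := change_lq _ hl _ hu
    have hv1 := (change_qq (c % 32) (Nat.mod_lt _ (by norm_num)) _ hA).1
    set M := uGet mTab 11 (c / 32) (c' / 32) with hMdef
    set A := uGet aTab 5 (c / 32) (c' % 32) with hAdef
    have hv2 := (change_qq _ hv1 (M % 32) (Nat.mod_lt _ (by norm_num))).1
    have hval : uMul c c' = uQ (uQ (c % 32) A) (M % 32) + 32 * (M / 32) := rfl
    set V := uQ (uQ (c % 32) A) (M % 32) with hVdef
    rw [hval]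
    refine ⟨by omega, ?_⟩
    have hV : h (V + 32 * (M / 32)) = h V * h (32 * (M / 32)) := by
      rw [split (by omega : V + 32 * (M / 32) < 1152), show (V + 32 * (M / 32)) % 32 = V by omega,
        show (V + 32 * (M / 32)) / 32 = M / 32 by omega]
    calc h c * h c' = h (c % 32) * (h (32 * (c / 32)) * h (c' % 32)) * h (32 * (c' / 32)) := by
          rw [split hc, split hc']; group
      _ = h (c % 32) * h A * (h (32 * (c / 32)) * h (32 * (c' / 32))) := by rw [lq hl hu, ← hAdef]; group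
      _ = h (uQ (c % 32) A) * (h (M % 32) * h (32 * (M / 32))) := by
          rw [qq (Nat.mod_lt _ (by norm_num)) hA, ll hl hm, ← hMdef, split hM]
      _ = h (V + 32 * (M / 32)) := by
          rw [hV, ← mul_assoc, qq hv1 (Nat.mod_lt _ (by norm_num))]
  · have := congrArg phiInv (E.el_inj (change_ok c hc).1 (change_ok c' hc').1 e)
    rwa [(change_ok c hc).2.2.1, (change_ok c' hc').2.2.1] at this
  · obtain ⟨c, hc, e⟩ := E.el_surj hg
    refine ⟨phiInv c, (change_ok c hc).2.1, ?_⟩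
    show cEl z q x y d s (phi (phiInv c)) = g
    rw [(change_ok c hc).2.2.2.1, e]
  · show cEl z q x y d s (phi zC) = z
    rw [show zC = 1 from rfl, p1, E.el_small (by norm_num), F.el_top]
  · rw [E.loc.hQ]
    constructor
    · rintro ⟨v, hv, rfl⟩
      have h' := change_ok v (by omega)
      exact ⟨phiInv v, (h'.2.2.2.2.1 hv).2, by rw [h'.2.2.2.1, E.el_small hv]⟩
    · rintro ⟨v, hv, rfl⟩
      have h' := ((change_ok v (by omega)).2.2.2.2.1 hv).1
      exact ⟨phi v, h', (E.el_small h').symm⟩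

/-- The coded centraliser from the hypotheses of the type of U₄(3). -/
theorem exists_code [Finite G] (z : G) (hz : orderOf z = 2)
    (H₁ H₂ : Subgroup (centralizer ({z} : Set G)))
    (hn₁ : (H₁.subgroupOf (H₁ ⊔ H₂)).Normal) (hn₂ : (H₂.subgroupOf (H₁ ⊔ H₂)).Normal)
    (e₁ : H₁ ≃* Matrix.SpecialLinearGroup (Fin 2) (ZMod 3)) (e₂ : H₂ ≃* Matrix.SpecialLinearGroup (Fin 2) (ZMod 3))
    (hmeet : (H₁ ⊓ H₂).map (Subgroup.subtype (centralizer ({z} : Set G))) = Subgroup.zpowers z)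
    (Q : Subgroup (centralizer ({z} : Set G))) [Q.Normal]
    (hQ : Q = (Cfsg.pCore 2 ↥(H₁ ⊔ H₂)).map (Subgroup.subtype (H₁ ⊔ H₂)))
    (hF : Cfsg.generalizedFittingSubgroup (centralizer ({z} : Set G)) = Q)
    (hnwc : ∃ g : G, (∃ hq : g * z * g⁻¹ ∈ centralizer ({z} : Set G),
      (⟨g * z * g⁻¹, hq⟩ : centralizer ({z} : Set G)) ∈ Q) ∧ g * z * g⁻¹ ≠ z)
    (hH : Nat.card ↥(centralizer ({z} : Set G)) = 2 ^ 7 * 3 ^ 2)
    (hQQg : ∀ g : G, g * z * g⁻¹ ∈ Q.map (Subgroup.subtype (centralizer ({z} : Set G))) → g * z * g⁻¹ ≠ z →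
      Nat.card ↥((Q.map (Subgroup.subtype (centralizer ({z} : Set G)))) ⊓
        (Q.map (Subgroup.subtype (centralizer ({z} : Set G)))).map (MulAut.conj g).toMonoidHom) = 4) :
    ∃ el : ℕ → G, Code z el ∧
      ∀ g, g ∈ Q.map (Subgroup.subtype (centralizer ({z} : Set G))) ↔ ∃ v < 32, el v = g := by
  obtain ⟨q, x, y, L⟩ := exists_loc z hz H₁ H₂ hn₁ hn₂ e₁ e₂ hmeet Q hQ hF hH
  obtain ⟨g₀, ⟨hq, hg₀⟩, hne⟩ := hnwc
  obtain ⟨g, hg, hg', hN⟩ := L.exists_swap ⟨g₀, ⟨⟨_, hq⟩, hg₀, rfl⟩, hne⟩ hQQg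
  have P := L.exists_pair hg hg' hN
  obtain ⟨hb, hc, hbc⟩ := L.outside hg hg' hN
  obtain ⟨d, s, e₁', e₂', e₃', E⟩ := L.exists_ext P hb hc hbc
  obtain ⟨rfl, rfl, rfl⟩ := E.bits_eq P hb hc hbc
  exact ⟨_, E.code⟩

end CfsgLib.UFourType.Coords
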