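import Mathlib
import Cfsg.Agent.Lib.UFourType.Coords.Code

/-!
The elements of the central product of two quaternion groups given by the codes.
-/

set_option autoImplicit false
set_option linter.unusedSectionVars false
set_option maxRecDepth 100000

namespace CfsgLib.UFourType.Coords

variable {G : Type*} [Group G]

/-- The element or one. -/
def bEl (g : G) (e : Bool) : G := if e then g else 1

/-- Generators of two commuting quaternion groups with the same central involution. -/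
structure QFrame (z : G) (q : ℕ → G) : Prop where
  zz : z * z = 1
  z_ne : z ≠ 1
  zc : ∀ k < 4, Commute z (q k)
  sq : ∀ k < 4, q k * q k = z
  anti0 : q 1 * q 0 = q 0 * q 1 * z
  anti2 : q 3 * q 2 = q 2 * q 3 * z
  cross : ∀ i < 2, ∀ j < 2, Commute (q i) (q (2 + j))

/-- The element of a code. -/
def qEl (z : G) (q : ℕ → G) (v : ℕ) : G :=
  bEl (q 0) (v.testBit 0) * bEl (q 1) (v.testBit 1) * (bEl (q 2) (v.testBit 2) * bEl (q 3) (v.testBit 3)) *
    bEl z (v.testBit 4)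

/-- The element of five bits. -/
def bits5 (z : G) (q : ℕ → G) (b0 b1 b2 b3 b4 : Bool) : G :=
  bEl (q 0) b0 * bEl (q 1) b1 * (bEl (q 2) b2 * bEl (q 3) b3) * bEl z b4

/-- The five bits of a code. -/
def bitsOf (v : ℕ) : List Bool := [v.testBit 0, v.testBit 1, v.testBit 2, v.testBit 3, v.testBit 4]

/-- The bits after multiplication by one of the generators. -/
def stepBits (k : ℕ) (v : ℕ) : List Bool :=
  let b0 := v.testBit 0; let b1 := v.testBit 1; let b2 := v.testBit 2; let b3 := v.testBit 3; let b4 := v.testBit 4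
  if k = 0 then [!b0, b1, b2, b3, Bool.xor b4 (Bool.xor b0 b1)]
  else if k = 1 then [b0, !b1, b2, b3, Bool.xor b4 b1]
  else if k = 2 then [b0, b1, !b2, b3, Bool.xor b4 (Bool.xor b2 b3)]
  else if k = 3 then [b0, b1, b2, !b3, Bool.xor b4 b3]
  else [b0, b1, b2, b3, !b4]

theorem step_table : ∀ v < 32, ∀ k < 5, bitsOf (qMul v (2 ^ k)) = stepBits k v := by decide +kernel

theorem mul_table : ∀ v < 32, ∀ w < 32,
    qMul (qMul (qMul (qMul (if w.testBit 0 then qMul v 1 else v) (qBit w 1 2)) (qBit w 2 4)) (qBit w 3 8))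
      (qBit w 4 16) = qMul v w := by decide +kernel

theorem zero_mul_table : ∀ v < 32, qMul v 0 = v ∧ qMul 0 v = v ∧ qMul v (qInv v) = 0 ∧ qMul (qInv v) v = 0 ∧
    qInv v < 32 := by decide +kernel

theorem centre_table : ∀ u < 32, u = 0 ∨ u = 16 ∨
    ∃ k < 4, qMul u (2 ^ k) = qMul (qMul (2 ^ k) u) 16 := by decide +kernel

namespace QFrame

variable {z : G} {q : ℕ → G} (F : QFrame z q)

include F

theorem bz (e : Bool) {k : ℕ} (hk : k < 4) : Commute (bEl z e) (q k) := by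
  cases e <;> simp [bEl, F.zc k hk]

theorem zb (e e' : Bool) : bEl z e * bEl z e' = bEl z (Bool.xor e e') := by
  cases e <;> cases e' <;> simp [bEl, F.zz]

theorem bzb (e e' : Bool) {k : ℕ} (hk : k < 4) : Commute (bEl z e) (bEl (q k) e') := by
  cases e'
  · exact Commute.one_right _
  · exact F.bz e hk

theorem step0 (b0 b1 b2 b3 b4 : Bool) :
    bits5 z q b0 b1 b2 b3 b4 * q 0 = bits5 z q (!b0) b1 b2 b3 (Bool.xor b4 (Bool.xor b0 b1)) := by
  have h2 : Commute (bEl (q 2) b2 * bEl (q 3) b3) (q 0) :=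
    Commute.mul_left (by cases b2 <;> simp [bEl, (F.cross 0 (by norm_num) 0 (by norm_num)).symm])
      (by cases b3 <;> simp [bEl, (F.cross 0 (by norm_num) 1 (by norm_num)).symm])
  have hz : Commute (bEl z (Bool.xor b0 b1)) (bEl (q 2) b2 * bEl (q 3) b3) :=
    Commute.mul_right (F.bzb _ _ (by norm_num)) (F.bzb _ _ (by norm_num))
  have h : bEl (q 0) b0 * bEl (q 1) b1 * q 0 = bEl (q 0) (!b0) * bEl (q 1) b1 * bEl z (Bool.xor b0 b1) := by
    have hzz : ∀ g : G, g * z * z = g := fun g => by rw [mul_assoc, F.zz, mul_one]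
    cases b0 <;> cases b1
    · simp [bEl]
    · simp [bEl, F.anti0]
    · simp [bEl, F.sq 0]
    · simp only [bEl, if_true, Bool.not_true, Bool.false_eq_true, if_false, Bool.xor_self, one_mul, mul_one]
      rw [mul_assoc, F.anti0, ← mul_assoc, ← mul_assoc, F.sq 0 (by norm_num), (F.zc 1 (by norm_num)).eq, hzz]
  unfold bits5
  rw [mul_assoc _ (bEl z b4), (F.bz b4 (by norm_num : 0 < 4)).eq, ← mul_assoc,
    mul_assoc (bEl (q 0) b0 * bEl (q 1) b1), h2.eq, ← mul_assoc, h, mul_assoc _ (bEl z (Bool.xor b0 b1)), hz.eq,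
    ← mul_assoc, mul_assoc _ (bEl z (Bool.xor b0 b1)), F.zb, Bool.xor_comm]

theorem step1 (b0 b1 b2 b3 b4 : Bool) :
    bits5 z q b0 b1 b2 b3 b4 * q 1 = bits5 z q b0 (!b1) b2 b3 (Bool.xor b4 b1) := by
  have h2 : Commute (bEl (q 2) b2 * bEl (q 3) b3) (q 1) :=
    Commute.mul_left (by cases b2 <;> simp [bEl, (F.cross 1 (by norm_num) 0 (by norm_num)).symm])
      (by cases b3 <;> simp [bEl, (F.cross 1 (by norm_num) 1 (by norm_num)).symm])
  have hz : Commute (bEl z b1) (bEl (q 2) b2 * bEl (q 3) b3) :=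
    Commute.mul_right (F.bzb _ _ (by norm_num)) (F.bzb _ _ (by norm_num))
  have h : bEl (q 0) b0 * bEl (q 1) b1 * q 1 = bEl (q 0) b0 * bEl (q 1) (!b1) * bEl z b1 := by
    cases b1
    · simp [bEl]
    · simp [bEl, F.sq 1, mul_assoc]
  unfold bits5
  rw [mul_assoc _ (bEl z b4), (F.bz b4 (by norm_num : 1 < 4)).eq, ← mul_assoc,
    mul_assoc (bEl (q 0) b0 * bEl (q 1) b1), h2.eq, ← mul_assoc, h, mul_assoc _ (bEl z b1), hz.eq,
    ← mul_assoc, mul_assoc _ (bEl z b1), F.zb, Bool.xor_comm]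

theorem step2 (b0 b1 b2 b3 b4 : Bool) :
    bits5 z q b0 b1 b2 b3 b4 * q 2 = bits5 z q b0 b1 (!b2) b3 (Bool.xor b4 (Bool.xor b2 b3)) := by
  have h : bEl (q 2) b2 * bEl (q 3) b3 * q 2 = bEl (q 2) (!b2) * bEl (q 3) b3 * bEl z (Bool.xor b2 b3) := by
    have hzz : ∀ g : G, g * z * z = g := fun g => by rw [mul_assoc, F.zz, mul_one]
    cases b2 <;> cases b3
    · simp [bEl]
    · simp [bEl, F.anti2]
    · simp [bEl, F.sq 2]
    · simp only [bEl, if_true, Bool.not_true, Bool.false_eq_true, if_false, Bool.xor_self, one_mul, mul_one]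
      rw [mul_assoc, F.anti2, ← mul_assoc, ← mul_assoc, F.sq 2 (by norm_num), (F.zc 3 (by norm_num)).eq, hzz]
  unfold bits5
  rw [mul_assoc _ (bEl z b4), (F.bz b4 (by norm_num : 2 < 4)).eq, ← mul_assoc,
    mul_assoc (bEl (q 0) b0 * bEl (q 1) b1), h, ← mul_assoc, mul_assoc _ (bEl z (Bool.xor b2 b3)), F.zb,
    Bool.xor_comm]

theorem step3 (b0 b1 b2 b3 b4 : Bool) :
    bits5 z q b0 b1 b2 b3 b4 * q 3 = bits5 z q b0 b1 b2 (!b3) (Bool.xor b4 b3) := by
  have h : bEl (q 2) b2 * bEl (q 3) b3 * q 3 = bEl (q 2) b2 * bEl (q 3) (!b3) * bEl z b3 := by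
    cases b3
    · simp [bEl]
    · simp [bEl, F.sq 3, mul_assoc]
  unfold bits5
  rw [mul_assoc _ (bEl z b4), (F.bz b4 (by norm_num : 3 < 4)).eq, ← mul_assoc,
    mul_assoc (bEl (q 0) b0 * bEl (q 1) b1), h, ← mul_assoc, mul_assoc _ (bEl z b3), F.zb, Bool.xor_comm]

theorem el_zero : qEl z q 0 = 1 := by simp [qEl, bEl]

theorem el_top : qEl z q 16 = z := by simp [qEl, bEl, Nat.testBit_eq_decide_div_mod_eq]

theorem el_gen : ∀ k < 4, qEl z q (2 ^ k) = q k := by
  intro k hk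
  interval_cases k <;> simp [qEl, bEl, Nat.testBit_eq_decide_div_mod_eq]

theorem el_step {v : ℕ} (hv : v < 32) {k : ℕ} (hk : k < 4) : qEl z q v * q k = qEl z q (qMul v (2 ^ k)) := by
  have t := step_table v hv k (by omega)
  simp only [bitsOf, stepBits] at t
  show bits5 z q _ _ _ _ _ * q k = bits5 z q _ _ _ _ _
  interval_cases k <;> simp only [List.cons.injEq, and_true, if_true, if_false, Nat.one_ne_zero,
      show (2 : ℕ) ≠ 0 by norm_num, show (2 : ℕ) ≠ 1 by norm_num, show (3 : ℕ) ≠ 0 by norm_num,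
      show (3 : ℕ) ≠ 1 by norm_num, show (3 : ℕ) ≠ 2 by norm_num] at t <;>
    obtain ⟨e0, e1, e2, e3, e4⟩ := t <;> rw [e0, e1, e2, e3, e4]
  exacts [F.step0 .., F.step1 .., F.step2 .., F.step3 ..]

theorem el_step_top {v : ℕ} (hv : v < 32) : qEl z q v * z = qEl z q (qMul v 16) := by
  have t := step_table v hv 4 (by norm_num)
  simp only [bitsOf, stepBits, List.cons.injEq, and_true, show (4 : ℕ) ≠ 0 by norm_num,
    show (4 : ℕ) ≠ 1 by norm_num, show (4 : ℕ) ≠ 2 by norm_num, show (4 : ℕ) ≠ 3 by norm_num, if_false] at t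
  obtain ⟨e0, e1, e2, e3, e4⟩ := t
  show _ * bEl z _ * z = _
  simp only [qEl, show qMul v 16 = qMul v (2 ^ 4) from rfl, e0, e1, e2, e3, e4]
  cases v.testBit 4 <;> simp [bEl, F.zz, mul_assoc]

theorem el_mul {v w : ℕ} (hv : v < 32) (hw : w < 32) : qEl z q v * qEl z q w = qEl z q (qMul v w) := by
  have st : ∀ u, u < 32 → ∀ i < 5, ∀ g, g = (if i < 4 then q i else z) →
      qEl z q u * bEl g (w.testBit i) = qEl z q (qMul u (qBit w i (2 ^ i))) ∧
        qMul u (qBit w i (2 ^ i)) < 32 := by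
    intro u hu i hi g hg
    refine ⟨?_, qMul_lt _ _⟩
    unfold qBit
    cases w.testBit i
    · simp [bEl, (zero_mul_table u hu).1]
    · simp only [bEl, if_true, hg]
      split_ifs with h
      · exact F.el_step hu h
      · obtain rfl : i = 4 := by omega
        exact F.el_step_top hu
  have h0 : (if w.testBit 0 then qMul v 1 else v) = qMul v (qBit w 0 (2 ^ 0)) := by
    unfold qBit
    cases w.testBit 0
    · simp [(zero_mul_table v hv).1]
    · simp
  obtain ⟨s0, l0⟩ := st v hv 0 (by norm_num) (q 0) rfl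
  obtain ⟨s1, l1⟩ := st _ l0 1 (by norm_num) (q 1) rfl
  obtain ⟨s2, l2⟩ := st _ l1 2 (by norm_num) (q 2) rfl
  obtain ⟨s3, l3⟩ := st _ l2 3 (by norm_num) (q 3) rfl
  obtain ⟨s4, -⟩ := st _ l3 4 (by norm_num) z rfl
  rw [← mul_table v hv w hw, h0]
  rw [show (2 : ℕ) ^ 1 = 2 from rfl] at s1 s2 s3 s4
  rw [show (2 : ℕ) ^ 2 = 4 from rfl] at s2 s3 s4
  rw [show (2 : ℕ) ^ 3 = 8 from rfl] at s3 s4
  rw [show (2 : ℕ) ^ 4 = 16 from rfl] at s4
  rw [← s4, ← s3, ← s2, ← s1, ← s0]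
  simp only [qEl, mul_assoc]

theorem el_inv {v : ℕ} (hv : v < 32) : qEl z q (qInv v) = (qEl z q v)⁻¹ :=
  eq_inv_of_mul_eq_one_right (by rw [F.el_mul hv (zero_mul_table v hv).2.2.2.2, (zero_mul_table v hv).2.2.1, F.el_zero])

theorem el_conj {v w : ℕ} (hv : v < 32) (hw : w < 32) :
    qEl z q v * qEl z q w * (qEl z q v)⁻¹ = qEl z q (qConj v w) := by
  rw [← F.el_inv hv, F.el_mul hv hw, F.el_mul (qMul_lt _ _) (zero_mul_table v hv).2.2.2.2]
  rfl

theorem el_inj {v w : ℕ} (hv : v < 32) (hw : w < 32) (h : qEl z q v = qEl z q w) : v = w := by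
  have hi := (zero_mul_table v hv).2.2.2.2
  have h1 : qEl z q (qMul (qInv v) w) = 1 := by rw [← F.el_mul hi hw, ← h, F.el_inv hv, inv_mul_cancel]
  have hu : qMul (qInv v) w = 0 := by
    rcases centre_table _ (qMul_lt (qInv v) w) with e | e | ⟨k, hk, e⟩
    · exact e
    · rw [e, F.el_top] at h1
      exact absurd h1 F.z_ne
    · have hp : 2 ^ k < 32 := by interval_cases k <;> norm_num
      have e' := congrArg (qEl z q) e
      rw [← F.el_mul (qMul_lt _ _) hp, ← F.el_mul (qMul_lt _ _) (by norm_num), ← F.el_mul hp (qMul_lt _ _),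
        h1, one_mul, mul_one, F.el_top, left_eq_mul] at e'
      exact absurd e' F.z_ne
  have key : ∀ v < 32, ∀ w < 32, qMul (qInv v) w = 0 → v = w := by decide +kernel
  exact key v hv w hw hu

/-- Conjugation is given by the images of the generators. -/
theorem conj_el {g : G} (hg : Commute g z) {A : List ℕ} (hA : ∀ k < 4, A.getD k 0 < 32)
    (h : ∀ k < 4, g * q k * g⁻¹ = qEl z q (A.getD k 0)) {v : ℕ} :
    g * qEl z q v * g⁻¹ = qEl z q (qAut A v) := by
  have hb : ∀ i, ∀ hi : i < 4, g * bEl (q i) (v.testBit i) * g⁻¹ = qEl z q (qBit v i (A.getD i 0)) ∧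
      qBit v i (A.getD i 0) < 32 := fun i hi => by
    unfold qBit
    cases v.testBit i
    · simp [bEl, F.el_zero]
    · simpa [bEl] using ⟨h i hi, hA i hi⟩
  obtain ⟨a0, b0⟩ := hb 0 (by norm_num)
  obtain ⟨a1, b1⟩ := hb 1 (by norm_num)
  obtain ⟨a2, b2⟩ := hb 2 (by norm_num)
  obtain ⟨a3, b3⟩ := hb 3 (by norm_num)
  have a4 : g * bEl z (v.testBit 4) * g⁻¹ = qEl z q (qBit v 4 16) := by
    unfold qBit
    cases v.testBit 4
    · simp [bEl, F.el_zero]
    · simp [bEl, F.el_top, hg.eq]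
  have b4 : qBit v 4 16 < 32 := by unfold qBit; split_ifs <;> norm_num
  simp only [qAut]
  rw [← F.el_mul (qMul_lt _ _) b4, ← F.el_mul (qMul_lt _ _) b3, ← F.el_mul (qMul_lt _ _) b2, ← F.el_mul b0 b1,
    ← a0, ← a1, ← a2, ← a3, ← a4]
  simp only [qEl]
  group

end QFrame

end CfsgLib.UFourType.Coords
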