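import Mathlib

/-!
Generators of SL(2, 3) as a quaternion group extended by an element of order three.
-/

set_option autoImplicit false
set_option maxRecDepth 100000

namespace CfsgLib.UFourType.Coords.SLTwo

open Matrix

/-- The group. -/
abbrev S2 : Type := Matrix.SpecialLinearGroup (Fin 2) (ZMod 3)

/-- The upper transvection of order three. -/
def uM : S2 := ⟨!![1, 2; 0, 1], by decide +kernel⟩

/-- The lower transvection. -/
def lM : S2 := ⟨!![1, 0; 1, 1], by decide +kernel⟩

/-- The element of order three permuting the quaternion generators. -/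
def xM : S2 := ⟨!![1, 1; 0, 1], by decide +kernel⟩

/-- The first quaternion generator. -/
def iM : S2 := uM * lM * uM

/-- The second quaternion generator. -/
def jM : S2 := xM * iM * xM * xM

/-- The central involution. -/
def mM : S2 := ⟨!![2, 0; 0, 2], by decide +kernel⟩

theorem facts : uM * uM * uM = 1 ∧ lM * lM * lM = 1 ∧ xM * xM * xM = 1 ∧ iM * iM = mM ∧ jM * jM = mM ∧
    jM * iM = iM * jM * mM ∧ xM * iM = jM * xM ∧ xM * jM = iM * jM * xM ∧ mM * mM = 1 ∧ mM ≠ 1 := by
  decide +kernel

theorem invol : ∀ A : S2, A * A = 1 → A = 1 ∨ A = mM := by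
  have key : ∀ a b c d : ZMod 3, !![a, b; c, d].det = 1 → !![a, b; c, d] * !![a, b; c, d] = 1 →
      !![a, b; c, d] = 1 ∨ !![a, b; c, d] = !![2, 0; 0, 2] := by decide +kernel
  intro A h
  have e := Matrix.eta_fin_two A.1
  have h' := congrArg Subtype.val h
  rcases key _ _ _ _ (by rw [← e]; exact A.2) (by rw [← e]; exact h') with k | k
  · exact Or.inl (Subtype.ext (by rw [e]; exact k))
  · exact Or.inr (Subtype.ext (by rw [e]; exact k))

/-- The element of a code. -/
def el (v p : ℕ) : S2 :=
  (if v.testBit 0 then iM else 1) * (if v.testBit 1 then jM else 1) * (if v.testBit 2 then mM else 1) * xM ^ p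

theorem cover : ∀ A : S2, ∃ v < 8, ∃ p < 3, A = el v p := by
  have key : ∀ a b c d : ZMod 3, !![a, b; c, d].det = 1 →
      ∃ v < 8, ∃ p < 3, !![a, b; c, d] = (el v p).1 := by decide +kernel
  intro A
  have e := Matrix.eta_fin_two A.1
  obtain ⟨v, hv, p, hp, h⟩ := key _ _ _ _ (by rw [← e]; exact A.2)
  exact ⟨v, hv, p, hp, Subtype.ext (by rw [e]; exact h)⟩

theorem card_eq : Nat.card S2 = 24 := by
  have hb : Function.Bijective (fun c : Fin 8 × Fin 3 => el c.1 c.2) := by
    refine ⟨?_, fun A => ?_⟩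
    · have key : ∀ c d : Fin 8 × Fin 3, el c.1 c.2 = el d.1 d.2 → c = d := by decide +kernel
      exact fun c d => key c d
    · obtain ⟨v, hv, p, hp, h⟩ := cover A
      exact ⟨(⟨v, hv⟩, ⟨p, hp⟩), h.symm⟩
  rw [← Nat.card_eq_of_bijective _ hb]
  simp

end CfsgLib.UFourType.Coords.SLTwo
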