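import Cfsg.Agent.Lib.UFourType.Coords.Frame
import Cfsg.Agent.Lib.UFourType.Coords.SLTwo
import Cfsg.Agent.Lib.Cores.Components

/-!
# The frame of the centraliser from the defining hypotheses of U₄(3) type
-/

set_option autoImplicit false
set_option linter.unusedSectionVars false
set_option maxRecDepth 100000

namespace CfsgLib.UFourType.Coords

open Subgroup Cfsg

variable {G : Type*} [Group G]

/-- The normal subgroup and two elements of order three with their actions. -/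
structure Loc (z : G) (Q : Subgroup G) (q : ℕ → G) (x y : G) : Prop where
  frame : QFrame z q
  hQ : ∀ g, g ∈ Q ↔ ∃ v < 32, qEl z q v = g
  hQC : Q ≤ centralizer ({z} : Set G)
  cardC : Nat.card ↥(centralizer ({z} : Set G)) = 1152
  xz : Commute x z
  yz : Commute y z
  x3 : x * x * x = 1
  y3 : y * y * y = 1
  xy : Commute x y
  conjX : ∀ k < 4, x * q k * x⁻¹ = qEl z q (imX.getD k 0)
  conjY : ∀ k < 4, y * q k * y⁻¹ = qEl z q (imY.getD k 0)
  conjQ : ∀ h, Commute h z → ∀ u ∈ Q, h * u * h⁻¹ ∈ Q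
  cent : ∀ h, Commute h z → (∀ k < 4, Commute h (q k)) → ∃ v < 32, qEl z q v = h

/-- The action of `x ^ p * y ^ r` on the codes. -/
def pAct (p r v : ℕ) : ℕ := rep (qAut imX) p (rep (qAut imY) r v)

theorem imXY_lt : ∀ k < 4, imX.getD k 0 < 32 ∧ imY.getD k 0 < 32 := by decide +kernel

theorem conj_rep {z : G} {q : ℕ → G} (F : QFrame z q) {g : G} (hg : Commute g z) {A : List ℕ}
    (hA : ∀ k < 4, A.getD k 0 < 32) (h : ∀ k < 4, g * q k * g⁻¹ = qEl z q (A.getD k 0)) :
    ∀ (n : ℕ) {v : ℕ}, v < 32 → g ^ n * qEl z q v = qEl z q (rep (qAut A) n v) * g ^ n ∧ rep (qAut A) n v < 32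
  | 0, v, hv => by simp [rep, hv]
  | n + 1, v, hv => by
    obtain ⟨e, l⟩ := conj_rep F hg hA h n hv
    refine ⟨?_, qAut_lt _ _⟩
    rw [pow_succ', mul_assoc, e, ← mul_assoc, rep, ← F.conj_el hg hA h]
    group

theorem sub_frame {H : Type*} [Group H] {zC : H} (hz : zC * zC = 1) (hz1 : zC ≠ 1) {A : Subgroup H}
    (e : ↥A ≃* SLTwo.S2) (hzA : zC ∈ A) :
    ∃ i j x u l : H, i ∈ A ∧ j ∈ A ∧ x ∈ A ∧ u ∈ A ∧ l ∈ A ∧ i * i = zC ∧ j * j = zC ∧ j * i = i * j * zC ∧
      x * i * x⁻¹ = j ∧ x * j * x⁻¹ = i * j ∧ x * x * x = 1 ∧ u * u * u = 1 ∧ l * l * l = 1 ∧ i = u * l * u ∧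
      ∀ a ∈ A, ∃ v < 8, ∃ p < 3, a = (if v.testBit 0 then i else 1) * (if v.testBit 1 then j else 1) *
        (if v.testBit 2 then zC else 1) * x ^ p := by
  let f : SLTwo.S2 →* H := A.subtype.comp e.symm.toMonoidHom
  have hm : e ⟨zC, hzA⟩ = SLTwo.mM := (SLTwo.invol _ (by
    rw [← map_mul, show (⟨zC, hzA⟩ : ↥A) * ⟨zC, hzA⟩ = 1 from Subtype.ext hz, map_one])).resolve_left fun h =>
      hz1 (congrArg Subtype.val (e.map_eq_one_iff.1 h))
  have fm : f SLTwo.mM = zC := by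
    rw [← hm]
    show ((e.symm (e ⟨zC, hzA⟩) : ↥A) : H) = zC
    rw [e.symm_apply_apply]
  have fA : ∀ s, f s ∈ A := fun s => (e.symm s).2
  obtain ⟨u3, l3, x3, ii, jj, ji, xi, xj, -, -⟩ := SLTwo.facts
  refine ⟨f SLTwo.iM, f SLTwo.jM, f SLTwo.xM, f SLTwo.uM, f SLTwo.lM, fA _, fA _, fA _, fA _, fA _, ?_, ?_, ?_,
    ?_, ?_, ?_, ?_, ?_, ?_, fun a ha => ?_⟩
  · rw [← map_mul, ii, fm]
  · rw [← map_mul, jj, fm]
  · rw [← map_mul, ji, map_mul, map_mul, fm]
  · rw [mul_inv_eq_iff_eq_mul, ← map_mul, xi, map_mul]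
  · rw [mul_inv_eq_iff_eq_mul, ← map_mul, xj, map_mul, map_mul]
  · rw [← map_mul, ← map_mul, x3, map_one]
  · rw [← map_mul, ← map_mul, u3, map_one]
  · rw [← map_mul, ← map_mul, l3, map_one]
  · rw [← map_mul, ← map_mul]; rfl
  · obtain ⟨v, hv, p, hp, h⟩ := SLTwo.cover (e ⟨a, ha⟩)
    refine ⟨v, hv, p, hp, ?_⟩
    have ea : f (e ⟨a, ha⟩) = a := by
      show ((e.symm (e ⟨a, ha⟩) : ↥A) : H) = a
      rw [e.symm_apply_apply]
    rw [← ea, h, SLTwo.el]
    simp only [map_mul, map_pow, apply_ite f, map_one, fm]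

/-- The local frame from the hypotheses. -/
theorem exists_loc [Finite G] (z : G) (hz : orderOf z = 2)
    (H₁ H₂ : Subgroup (centralizer ({z} : Set G)))
    (hn₁ : (H₁.subgroupOf (H₁ ⊔ H₂)).Normal) (hn₂ : (H₂.subgroupOf (H₁ ⊔ H₂)).Normal)
    (e₁ : H₁ ≃* SLTwo.S2) (e₂ : H₂ ≃* SLTwo.S2)
    (hmeet : (H₁ ⊓ H₂).map (Subgroup.subtype (centralizer ({z} : Set G))) = Subgroup.zpowers z)
    (Q : Subgroup (centralizer ({z} : Set G))) [Q.Normal]
    (hQ : Q = (Cfsg.pCore 2 ↥(H₁ ⊔ H₂)).map (Subgroup.subtype (H₁ ⊔ H₂)))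
    (hF : Cfsg.generalizedFittingSubgroup (centralizer ({z} : Set G)) = Q)
    (hH : Nat.card ↥(centralizer ({z} : Set G)) = 2 ^ 7 * 3 ^ 2) :
    ∃ (q : ℕ → G) (x y : G), Loc z (Q.map (Subgroup.subtype (centralizer ({z} : Set G)))) q x y := by
  classical
  set zC : ↥(centralizer ({z} : Set G)) := ⟨z, mem_centralizer_singleton_iff.2 rfl⟩
  have zz : zC * zC = 1 := Subtype.ext (by
    show z * z = 1
    rw [← pow_two, ← hz, pow_orderOf_eq_one])
  have zne : zC ≠ 1 := fun h => by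
    have : z = 1 := congrArg Subtype.val h
    simp [this] at hz
  have zcomm : ∀ h : ↥(centralizer ({z} : Set G)), Commute zC h := fun h => Subtype.ext (mem_centralizer_singleton_iff.1 h.2).symm
  have hzm : zC ∈ H₁ ⊓ H₂ := by
    have : z ∈ (H₁ ⊓ H₂).map (centralizer ({z} : Set G)).subtype := hmeet ▸ mem_zpowers z
    obtain ⟨w, hw, e⟩ := mem_map.1 this
    rwa [show w = zC from Subtype.ext e] at hw
  have meet : ∀ w : ↥(centralizer ({z} : Set G)), w ∈ H₁ → w ∈ H₂ → w = 1 ∨ w = zC := by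
    intro w h1 h2
    have : (w : G) ∈ Subgroup.zpowers z := hmeet ▸ mem_map_of_mem (centralizer ({z} : Set G)).subtype (show w ∈ H₁ ⊓ H₂ from ⟨h1, h2⟩)
    obtain ⟨n, hn⟩ := mem_zpowers_iff.1 this
    rcases Int.emod_two_eq_zero_or_one n with h | h
    · left
      apply Subtype.ext
      rw [← hn, ← zpow_mod_orderOf, hz]
      simp [h]
    · right
      apply Subtype.ext
      rw [← hn, ← zpow_mod_orderOf, hz]
      simp [h, zC]
  obtain ⟨i1, j1, x, u1, l1, i1A, j1A, xA, u1A, l1A, ii1, jj1, ji1, xi1, xj1, x3, u13, l13, iul1, cov1⟩ :=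
    sub_frame zz zne e₁ hzm.1
  obtain ⟨i2, j2, y, u2, l2, i2A, j2A, yA, u2A, l2A, ii2, jj2, ji2, yi2, yj2, y3, u23, l23, iul2, cov2⟩ :=
    sub_frame zz zne e₂ hzm.2
  -- the two factors commute
  have comm3 : ∀ a ∈ H₁, ∀ b ∈ H₂, b * b * b = 1 → Commute a b := by
    intro a ha b hb hb3
    have aK : a ∈ H₁ ⊔ H₂ := mem_sup_left ha
    have bK : b ∈ H₁ ⊔ H₂ := mem_sup_right hb
    have c1 : a * b * a⁻¹ * b⁻¹ ∈ H₁ := by
      have h := hn₁.conj_mem (n := ⟨a⁻¹, inv_mem aK⟩) (mem_subgroupOf.2 (inv_mem ha)) ⟨b, bK⟩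
      have h' : b * a⁻¹ * b⁻¹ ∈ H₁ := mem_subgroupOf.1 h
      simpa [mul_assoc] using mul_mem ha h'
    have c2 : a * b * a⁻¹ * b⁻¹ ∈ H₂ := by
      have h := hn₂.conj_mem (n := ⟨b, bK⟩) (mem_subgroupOf.2 hb) ⟨a, aK⟩
      have h' : a * b * a⁻¹ ∈ H₂ := mem_subgroupOf.1 h
      exact mul_mem h' (inv_mem hb)
    rcases meet _ c1 c2 with h | h
    · show a * b = b * a
      rwa [mul_inv_eq_one, mul_inv_eq_iff_eq_mul] at h
    · exfalso
      rw [mul_inv_eq_iff_eq_mul] at h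
      have e : (a * b * a⁻¹) * (a * b * a⁻¹) * (a * b * a⁻¹) = 1 := by
        calc _ = a * (b * b * b) * a⁻¹ := by group
          _ = 1 := by rw [hb3, mul_one, mul_inv_cancel]
      rw [h] at e
      apply zne
      calc zC = zC * (zC * zC) * (b * b * b) := by rw [zz, hb3, mul_one, mul_one]
        _ = (zC * b) * (zC * b) * (zC * b) := by
            simp only [mul_assoc, (zcomm b).left_comm, (zcomm b).eq]
        _ = 1 := e
  have cy : ∀ a ∈ H₁, Commute a y := fun a ha => comm3 a ha y yA y3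
  have ci2 : ∀ a ∈ H₁, Commute a i2 := fun a ha => by
    rw [iul2]
    exact ((comm3 a ha u2 u2A u23).mul_right (comm3 a ha l2 l2A l23)).mul_right (comm3 a ha u2 u2A u23)
  have cj2 : ∀ a ∈ H₁, Commute a j2 := fun a ha => by
    rw [← yi2]
    exact ((cy a ha).mul_right (ci2 a ha)).mul_right (cy a ha).inv_right
  let q : ℕ → ↥(centralizer ({z} : Set G)) := fun k => if k = 0 then i1 else if k = 1 then j1 else if k = 2 then i2 else j2
  have F : QFrame zC q := by
    refine ⟨zz, zne, fun k _ => zcomm _, fun k hk => ?_, ji1, ji2, fun i hi j hj => ?_⟩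
    · interval_cases k <;> assumption
    · interval_cases i <;> interval_cases j
      exacts [ci2 i1 i1A, cj2 i1 i1A, ci2 j1 j1A, cj2 j1 j1A]
  have hyi1 : y * i1 * y⁻¹ = i1 := by rw [(cy i1 i1A).symm.eq, mul_inv_cancel_right]
  have hyj1 : y * j1 * y⁻¹ = j1 := by rw [(cy j1 j1A).symm.eq, mul_inv_cancel_right]
  have hxi2 : x * i2 * x⁻¹ = i2 := by rw [(ci2 x xA).eq, mul_inv_cancel_right]
  have hxj2 : x * j2 * x⁻¹ = j2 := by rw [(cj2 x xA).eq, mul_inv_cancel_right]
  have e3 : qEl zC q 3 = i1 * j1 := by simp [qEl, bEl, q, Nat.testBit_eq_decide_div_mod_eq]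
  have e12 : qEl zC q 12 = i2 * j2 := by simp [qEl, bEl, q, Nat.testBit_eq_decide_div_mod_eq]
  have eg := F.el_gen
  have hX : ∀ k < 4, x * q k * x⁻¹ = qEl zC q (imX.getD k 0) := by
    intro k hk
    interval_cases k
    · exact xi1.trans (eg 1 (by norm_num)).symm
    · exact xj1.trans e3.symm
    · exact hxi2.trans (eg 2 (by norm_num)).symm
    · exact hxj2.trans (eg 3 (by norm_num)).symm
  have hY : ∀ k < 4, y * q k * y⁻¹ = qEl zC q (imY.getD k 0) := by
    intro k hk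
    interval_cases k
    · exact hyi1.trans (eg 0 (by norm_num)).symm
    · exact hyj1.trans (eg 1 (by norm_num)).symm
    · exact yi2.trans (eg 3 (by norm_num)).symm
    · exact yj2.trans e12.symm
  have hxy : Commute x y := cy x xA
  have hlX : ∀ k < 4, imX.getD k 0 < 32 := fun k hk => (imXY_lt k hk).1
  have hlY : ∀ k < 4, imY.getD k 0 < 32 := fun k hk => (imXY_lt k hk).2
  have mv : ∀ p r {v : ℕ}, v < 32 → x ^ p * y ^ r * qEl zC q v = qEl zC q (pAct p r v) * (x ^ p * y ^ r) ∧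
      pAct p r v < 32 := by
    intro p r v hv
    obtain ⟨a, la⟩ := conj_rep F (zcomm y).symm hlY hY r hv
    obtain ⟨b, lb⟩ := conj_rep F (zcomm x).symm hlX hX p la
    exact ⟨by rw [mul_assoc, a, ← mul_assoc, b, mul_assoc]; rfl, lb⟩
  -- every element of the product is a code times powers
  have qinv : ∀ v < 32, qInv v < 32 := fun v hv => (zero_mul_table v hv).2.2.2.2
  let Qs : Subgroup ↥(centralizer ({z} : Set G)) :=
    { carrier := {h | ∃ v < 32, qEl zC q v = h}
      one_mem' := ⟨0, by norm_num, F.el_zero⟩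
      mul_mem' := by
        rintro _ _ ⟨v, hv, rfl⟩ ⟨w, hw, rfl⟩
        exact ⟨qMul v w, qMul_lt _ _, (F.el_mul hv hw).symm⟩
      inv_mem' := by
        rintro _ ⟨v, hv, rfl⟩
        exact ⟨qInv v, qinv v hv, F.el_inv hv⟩ }
  have hgen : ∀ k < 4, q k ∈ Qs := fun k hk =>
    ⟨2 ^ k, by interval_cases k <;> norm_num, F.el_gen k hk⟩
  have hzQs : zC ∈ Qs := ⟨16, by norm_num, F.el_top⟩
  have cover : ∀ k ∈ H₁ ⊔ H₂, ∃ v < 32, ∃ p < 3, ∃ r < 3, k = qEl zC q v * (x ^ p * y ^ r) := by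
    have base1 : ∀ a ∈ H₁, ∃ v < 32, ∃ p < 3, a = qEl zC q v * x ^ p := fun a ha => by
      obtain ⟨v, -, p, hp, e⟩ := cov1 a ha
      have hm : (if v.testBit 0 then i1 else 1) * (if v.testBit 1 then j1 else 1) *
          (if v.testBit 2 then zC else 1) ∈ Qs := by
        refine mul_mem (mul_mem ?_ ?_) ?_ <;> split_ifs <;>
          first | exact one_mem _ | exact hgen 0 (by norm_num) | exact hgen 1 (by norm_num) | exact hzQs
      obtain ⟨w, hw, ew⟩ := hm
      exact ⟨w, hw, p, hp, by rw [e, ← ew]⟩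
    have base2 : ∀ a ∈ H₂, ∃ v < 32, ∃ p < 3, a = qEl zC q v * y ^ p := fun a ha => by
      obtain ⟨v, -, p, hp, e⟩ := cov2 a ha
      have hm : (if v.testBit 0 then i2 else 1) * (if v.testBit 1 then j2 else 1) *
          (if v.testBit 2 then zC else 1) ∈ Qs := by
        refine mul_mem (mul_mem ?_ ?_) ?_ <;> split_ifs <;>
          first | exact one_mem _ | exact hgen 2 (by norm_num) | exact hgen 3 (by norm_num) | exact hzQs
      obtain ⟨w, hw, ew⟩ := hm
      exact ⟨w, hw, p, hp, by rw [e, ← ew]⟩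
    have red : ∀ v < 32, ∀ p r : ℕ,
        ∃ v' < 32, ∃ p' < 3, ∃ r' < 3, qEl zC q v * (x ^ p * y ^ r) = qEl zC q v' * (x ^ p' * y ^ r') := by
      intro v hv p r
      refine ⟨v, hv, p % 3, Nat.mod_lt _ (by norm_num), r % 3, Nat.mod_lt _ (by norm_num), ?_⟩
      congr 2
      · conv_lhs => rw [← Nat.mod_add_div p 3, pow_add, pow_mul, pow_succ, pow_two, x3, one_pow, mul_one]
      · conv_lhs => rw [← Nat.mod_add_div r 3, pow_add, pow_mul, pow_succ, pow_two, y3, one_pow, mul_one]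
    have hmul : ∀ {g h : ↥(centralizer ({z} : Set G))}, (∃ v < 32, ∃ p < 3, ∃ r < 3, g = qEl zC q v * (x ^ p * y ^ r)) →
        (∃ v < 32, ∃ p < 3, ∃ r < 3, h = qEl zC q v * (x ^ p * y ^ r)) →
        ∃ v < 32, ∃ p < 3, ∃ r < 3, g * h = qEl zC q v * (x ^ p * y ^ r) := by
      rintro _ _ ⟨v, hv, p, -, r, -, rfl⟩ ⟨w, hw, p', -, r', -, rfl⟩
      obtain ⟨e, l⟩ := mv p r hw
      have := red _ (qMul_lt v (pAct p r w)) (p + p') (r + r')
      rw [← F.el_mul hv l] at this
      obtain ⟨a, ha, b, hb, c, hc, e'⟩ := this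
      refine ⟨a, ha, b, hb, c, hc, ?_⟩
      rw [← e', pow_add, pow_add]
      calc qEl zC q v * (x ^ p * y ^ r) * (qEl zC q w * (x ^ p' * y ^ r'))
          = qEl zC q v * (x ^ p * y ^ r * qEl zC q w) * (x ^ p' * y ^ r') := by group
        _ = qEl zC q v * qEl zC q (pAct p r w) * (x ^ p * (y ^ r * x ^ p') * y ^ r') := by rw [e]; group
        _ = _ := by rw [((hxy.pow_pow p' r).symm).eq]; group
    intro k hk
    rw [← Subgroup.closure_eq H₁, ← Subgroup.closure_eq H₂, ← Subgroup.closure_union] at hk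
    refine Subgroup.closure_induction ?_ ?_ ?_ ?_ hk
    · rintro a (ha | ha)
      · obtain ⟨v, hv, p, hp, e⟩ := base1 a ha
        exact ⟨v, hv, p, hp, 0, by norm_num, by rw [e, pow_zero, mul_one]⟩
      · obtain ⟨v, hv, p, hp, e⟩ := base2 a ha
        exact ⟨v, hv, 0, by norm_num, p, hp, by rw [e, pow_zero, one_mul]⟩
    · exact ⟨0, by norm_num, 0, by norm_num, 0, by norm_num, by simp [F.el_zero]⟩
    · exact fun _ _ _ _ => hmul
    · intro g _ h
      have hp : ∀ n : ℕ, ∃ v < 32, ∃ p < 3, ∃ r < 3, g ^ n = qEl zC q v * (x ^ p * y ^ r) := by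
        intro n
        induction n with
        | zero => exact ⟨0, by norm_num, 0, by norm_num, 0, by norm_num, by simp [F.el_zero]⟩
        | succ n ih => rw [pow_succ]; exact hmul ih h
      have := hp (orderOf g - 1)
      rwa [show g ^ (orderOf g - 1) = g⁻¹ from (inv_eq_of_mul_eq_one_right (by
        rw [← pow_succ', Nat.sub_add_cancel (orderOf_pos g), pow_orderOf_eq_one])).symm] at this
  have qK : Qs ≤ H₁ ⊔ H₂ := by
    rintro _ ⟨v, -, rfl⟩
    have hb : ∀ (g : ↥(centralizer ({z} : Set G))) (b : Bool), g ∈ H₁ ⊔ H₂ → bEl g b ∈ H₁ ⊔ H₂ := fun g b hg => by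
      cases b <;> simp [bEl, hg, one_mem]
    exact mul_mem (mul_mem (mul_mem (hb _ _ (mem_sup_left i1A)) (hb _ _ (mem_sup_left j1A)))
      (mul_mem (hb _ _ (mem_sup_right i2A)) (hb _ _ (mem_sup_right j2A)))) (hb _ _ (mem_sup_left hzm.1))
  have qfour : ∀ h ∈ Qs, h ^ 4 = 1 := by
    rintro _ ⟨v, hv, rfl⟩
    have key : ∀ v < 32, qMul (qMul v v) (qMul v v) = 0 := by decide +kernel
    rw [show 4 = 2 * 2 from rfl, pow_mul, pow_two, pow_two, F.el_mul hv hv, F.el_mul (qMul_lt _ _) (qMul_lt _ _),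
      key v hv, F.el_zero]
  -- the normal subgroup is the set of codes
  have hPQ : Qs = Q := by
    rw [hQ]
    refine le_antisymm ?_ ?_
    · have hnorm : (Qs.subgroupOf (H₁ ⊔ H₂)).Normal := ⟨fun n hn g => by
        obtain ⟨v, hv, p, -, r, -, e⟩ := cover _ g.2
        obtain ⟨w, hw, ew⟩ := mem_subgroupOf.1 hn
        obtain ⟨em, lm⟩ := mv p r hw
        refine mem_subgroupOf.2 ⟨qConj v (pAct p r w), qMul_lt _ _, ?_⟩
        rw [← F.el_conj hv lm, Subgroup.coe_mul, Subgroup.coe_mul, Subgroup.coe_inv, e, ← ew]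
        calc qEl zC q v * qEl zC q (pAct p r w) * (qEl zC q v)⁻¹
            = qEl zC q v * (qEl zC q (pAct p r w) * (x ^ p * y ^ r)) * (qEl zC q v * (x ^ p * y ^ r))⁻¹ := by group
          _ = _ := by rw [← em]; group⟩
      have hP : IsPGroup 2 ↥(Qs.subgroupOf (H₁ ⊔ H₂)) := fun h => ⟨2, by
        refine Subtype.ext (Subtype.ext ?_)
        simpa using qfour _ (mem_subgroupOf.1 h.2)⟩
      have hle := CfsgLib.Cores.le_pCore hP
      intro h hh
      exact ⟨⟨h, qK hh⟩, hle (mem_subgroupOf.2 hh), rfl⟩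
    · rintro _ ⟨k, hk, rfl⟩
      obtain ⟨n, hn⟩ := CfsgLib.Cores.isPGroup_pCore 2 ⟨k, hk⟩
      have hkn : (k : ↥(centralizer ({z} : Set G))) ^ 2 ^ n = 1 := by
        simpa using congrArg (fun w : ↥(pCore 2 ↥(H₁ ⊔ H₂)) => ((w : ↥(H₁ ⊔ H₂)) : ↥(centralizer ({z} : Set G)))) hn
      obtain ⟨v, hv, p, hp, r, hr, e⟩ := cover _ k.2
      set w := x ^ p * y ^ r
      have hw3 : w ^ 3 = 1 := by
        rw [(hxy.pow_pow p r).mul_pow, ← pow_mul, ← pow_mul, mul_comm p, mul_comm r, pow_mul, pow_mul]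
        simp [pow_succ, x3, y3]
      have hpow : ∀ m : ℕ, ∃ u < 32, (k : ↥(centralizer ({z} : Set G))) ^ m = qEl zC q u * w ^ m := by
        intro m
        induction m with
        | zero => exact ⟨0, by norm_num, by simp [F.el_zero]⟩
        | succ m ih =>
          obtain ⟨u, hu, eu⟩ := ih
          have hwm : ∀ (j : ℕ) (u : ℕ), u < 32 → ∃ u' < 32, w ^ j * qEl zC q u = qEl zC q u' * w ^ j := by
            intro j
            induction j with
            | zero => exact fun u hu => ⟨u, hu, by simp⟩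
            | succ j ij =>
              intro u hu
              obtain ⟨e1, l1⟩ := mv p r hu
              obtain ⟨u', hu', e2⟩ := ij _ l1
              refine ⟨u', hu', ?_⟩
              rw [pow_succ, mul_assoc, e1, ← mul_assoc, e2, mul_assoc]
          obtain ⟨v', hv', ev⟩ := hwm m v hv
          refine ⟨qMul u v', qMul_lt _ _, ?_⟩
          rw [pow_succ, eu, e, ← F.el_mul hu hv', pow_succ]
          calc qEl zC q u * w ^ m * (qEl zC q v * w) = qEl zC q u * (w ^ m * qEl zC q v) * w := by group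
            _ = _ := by rw [ev]; group
      have w1 : w = 1 := by
        obtain ⟨u, hu, eu⟩ := hpow (2 ^ n)
        rw [hkn, eq_comm, mul_eq_one_iff_inv_eq] at eu
        have h4 : (w ^ 2 ^ n) ^ 4 = 1 := by rw [← eu, inv_pow, qfour _ ⟨u, hu, rfl⟩, inv_one]
        rw [← pow_mul] at h4
        have h2 : orderOf w ∣ Nat.gcd 3 (2 ^ n * 4) :=
          Nat.dvd_gcd (orderOf_dvd_of_pow_eq_one hw3) (orderOf_dvd_of_pow_eq_one h4)
        rw [show Nat.gcd 3 (2 ^ n * 4) = 1 by
          rw [show 2 ^ n * 4 = 2 ^ (n + 2) by ring]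
          exact Nat.Coprime.pow_right _ (by norm_num)] at h2
        exact orderOf_eq_one_iff.1 (Nat.dvd_one.1 h2)
      refine ⟨v, hv, ?_⟩
      show qEl zC q v = (k : ↥(centralizer ({z} : Set G)))
      rw [e, w1, mul_one]
  -- down to the group
  have cm : ∀ v, qEl z (fun k => (q k : G)) v = ((qEl zC q v : ↥(centralizer ({z} : Set G))) : G) := fun v => by
    simp only [qEl, bEl, Subgroup.coe_mul, apply_ite (Subtype.val : ↥(centralizer ({z} : Set G)) → G), Subgroup.coe_one, zC]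
  refine ⟨fun k => (q k : G), (x : G), (y : G), ?_⟩
  refine
    { frame := ⟨congrArg Subtype.val zz, fun h => zne (Subtype.ext h), fun k hk => congrArg Subtype.val (F.zc k hk).eq,
        fun k hk => congrArg Subtype.val (F.sq k hk), congrArg Subtype.val F.anti0, congrArg Subtype.val F.anti2,
        fun i hi j hj => congrArg Subtype.val (F.cross i hi j hj).eq⟩
      hQ := fun g => ?_
      hQC := by
        rintro _ ⟨h, -, rfl⟩
        exact h.2
      cardC := hH.trans (by norm_num)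
      xz := (mem_centralizer_singleton_iff.1 x.2)
      yz := (mem_centralizer_singleton_iff.1 y.2)
      x3 := congrArg Subtype.val x3
      y3 := congrArg Subtype.val y3
      xy := congrArg Subtype.val hxy.eq
      conjX := fun k hk => (congrArg Subtype.val (hX k hk)).trans (cm _).symm
      conjY := fun k hk => (congrArg Subtype.val (hY k hk)).trans (cm _).symm
      conjQ := fun h hh u hu => ?_
      cent := fun h hh hq => ?_ }
  · constructor
    · rintro ⟨h, hh, rfl⟩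
      rw [← hPQ] at hh
      obtain ⟨v, hv, rfl⟩ := hh
      exact ⟨v, hv, cm v⟩
    · rintro ⟨v, hv, rfl⟩
      exact ⟨qEl zC q v, hPQ ▸ ⟨v, hv, rfl⟩, (cm v).symm⟩
  · obtain ⟨w, hw, rfl⟩ := hu
    refine ⟨⟨h, mem_centralizer_singleton_iff.2 hh⟩ * w * (⟨h, mem_centralizer_singleton_iff.2 hh⟩)⁻¹, ?_, rfl⟩
    exact (inferInstance : Q.Normal).conj_mem w hw _
  · let hC' : ↥(centralizer ({z} : Set G)) := ⟨h, mem_centralizer_singleton_iff.2 hh⟩
    have hb : ∀ (g : ↥(centralizer ({z} : Set G))) (b : Bool), Commute hC' g → Commute hC' (bEl g b) := fun g b hg => by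
      cases b <;> simp [bEl, hg]
    have hmem : hC' ∈ centralizer (Cfsg.generalizedFittingSubgroup ↥(centralizer ({z} : Set G)) : Set ↥(centralizer ({z} : Set G))) := by
      rw [hF, ← hPQ]
      refine mem_centralizer_iff.2 ?_
      rintro _ ⟨v, -, rfl⟩
      have hk : ∀ k < 4, Commute hC' (q k) := fun k hk => Subtype.ext (hq k hk).eq
      exact ((((hb _ _ (hk 0 (by norm_num))).mul_right (hb _ _ (hk 1 (by norm_num)))).mul_right
        ((hb _ _ (hk 2 (by norm_num))).mul_right (hb _ _ (hk 3 (by norm_num))))).mul_right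
        (hb _ _ (zcomm _).symm)).eq.symm
    have := CfsgLib.Cores.centralizer_generalizedFittingSubgroup_le hmem
    rw [hF, ← hPQ] at this
    obtain ⟨v, hv, e⟩ := this
    exact ⟨v, hv, (cm v).trans (congrArg Subtype.val e)⟩

end CfsgLib.UFourType.Coords
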