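import Cfsg.Agent.Lib.UFourType.Coords.Hyp

/-!
# An element exchanging the involution with one of the normal subgroup
-/

set_option autoImplicit false
set_option linter.unusedSectionVars false
set_option maxRecDepth 100000

namespace CfsgLib.UFourType.Coords

open Subgroup

variable {G : Type*} [Group G]

/-- The four common elements of the two normal subgroups. -/
def wList : List ℕ := [0, 5, 16, 21]

/-- The map exchanging the two involutions. -/
def wSwap (c : ℕ) : ℕ := if c = 5 then 16 else if c = 16 then 5 else c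

theorem conj_table : ∀ u < 32, qMul u u = 0 → u = 0 ∨ u = 16 ∨
    ∃ p < 3, ∃ r < 3, ∃ v < 32, qConj v (pAct p r 5) = u := by decide +kernel

theorem centre_in_A : ∀ v < 32, qMul v 5 = qMul 5 v → v ∈ wList ∨
    ∃ a < 32, qMul a 5 = qMul 5 a ∧ qCom a v = 16 := by decide +kernel

theorem square_one : ∀ v < 32, qMul v 5 = qMul 5 v → qMul v v = 16 → ∃ w ∈ wList, v = qMul 1 w := by
  decide +kernel

theorem square_ten : ∀ v < 32, qMul v 5 = qMul 5 v → qMul v v = 0 →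
    v ∈ wList ∨ (∃ w ∈ wList, v = qMul 10 w) ∨ ∃ w ∈ wList, v = qMul (qMul 1 10) w := by
  decide +kernel

/-- Two elements of the conjugate normal subgroup with their commutators. -/
structure Pair (z : G) (q : ℕ → G) (b c : G) : Prop where
  bz : Commute b z
  cz : Commute c z
  bu : Commute b (qEl z q 5)
  cu : Commute c (qEl z q 5)
  bb : b * b = qEl z q 5
  cc : c * c = 1
  bc : b * c * b⁻¹ * c⁻¹ = qEl z q 5
  trivB : ∀ a < 32, qMul a 5 = qMul 5 a → ∃ w ∈ wList, qEl z q a * b * (qEl z q a)⁻¹ * b⁻¹ = qEl z q w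
  trivC : ∀ a < 32, qMul a 5 = qMul 5 a → ∃ w ∈ wList, qEl z q a * c * (qEl z q a)⁻¹ * c⁻¹ = qEl z q w
  swap1 : ∀ w ∈ wList, q 0 * b * (q 0)⁻¹ * b⁻¹ = qEl z q w → wSwap w = w
  swap2 : ∀ w ∈ wList, ∀ w' ∈ wList, qEl z q 10 * b * (qEl z q 10)⁻¹ * b⁻¹ = qEl z q w →
    q 0 * c * (q 0)⁻¹ * c⁻¹ = qEl z q w' → w' = wSwap w
  swap3 : ∀ w ∈ wList, ∀ w' ∈ wList, qEl z q 10 * c * (qEl z q 10)⁻¹ * c⁻¹ = qEl z q w →
    q 0 * c * (q 0)⁻¹ * c⁻¹ = qEl z q w' → wSwap w = w ∨ wSwap w = qMul w' w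

namespace Loc

variable {z : G} {Q : Subgroup G} {q : ℕ → G} {x y : G} (L : Loc z Q q x y)

include L

theorem mem {v : ℕ} (hv : v < 32) : qEl z q v ∈ Q := (L.hQ _).2 ⟨v, hv, rfl⟩

theorem comm_z {v : ℕ} (hv : v < 32) : Commute (qEl z q v) z :=
  mem_centralizer_singleton_iff.1 (L.hQC (L.mem hv))

theorem pow_conj (p r : ℕ) {v : ℕ} (hv : v < 32) :
    x ^ p * y ^ r * qEl z q v = qEl z q (pAct p r v) * (x ^ p * y ^ r) ∧ pAct p r v < 32 := by
  obtain ⟨a, la⟩ := conj_rep L.frame L.yz (fun k hk => (imXY_lt k hk).2) L.conjY r hv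
  obtain ⟨b, lb⟩ := conj_rep L.frame L.xz (fun k hk => (imXY_lt k hk).1) L.conjX p la
  exact ⟨by rw [mul_assoc, a, ← mul_assoc, b, mul_assoc]; rfl, lb⟩

theorem pow_z (p r : ℕ) : Commute (x ^ p * y ^ r) z := (L.xz.pow_left p).mul_left (L.yz.pow_left r)

theorem transitive {u : G} (hu : u ∈ Q) (h2 : u * u = 1) (h1 : u ≠ 1) (hz : u ≠ z) :
    ∃ k : G, Commute k z ∧ k * qEl z q 5 * k⁻¹ = u := by
  obtain ⟨v, hv, rfl⟩ := (L.hQ u).1 hu
  rw [L.frame.el_mul hv hv, ← L.frame.el_zero] at h2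
  rcases conj_table v hv (L.frame.el_inj (qMul_lt _ _) (by norm_num) h2) with rfl | rfl | ⟨p, -, r, -, a, ha, e⟩
  · exact absurd L.frame.el_zero h1
  · exact absurd L.frame.el_top hz
  · obtain ⟨e1, l1⟩ := L.pow_conj p r (v := 5) (by norm_num)
    refine ⟨qEl z q a * (x ^ p * y ^ r), (L.comm_z ha).mul_left (L.pow_z p r), ?_⟩
    rw [← e, ← L.frame.el_conj ha l1]
    calc qEl z q a * (x ^ p * y ^ r) * qEl z q 5 * (qEl z q a * (x ^ p * y ^ r))⁻¹
        = qEl z q a * (x ^ p * y ^ r * qEl z q 5) * (x ^ p * y ^ r)⁻¹ * (qEl z q a)⁻¹ := by group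
      _ = _ := by rw [e1]; group

/-- Conjugates by two elements taking the involution to the same one of the normal subgroup. -/
theorem conjQ' {g h : G} (hh : Commute h z) (hu : Commute h (g * z * g⁻¹)) {n : G}
    (hn : n ∈ Q.map (MulAut.conj g).toMonoidHom) : h * n * h⁻¹ ∈ Q.map (MulAut.conj g).toMonoidHom := by
  obtain ⟨m, hm, rfl⟩ := mem_map.1 hn
  have e : Commute (g⁻¹ * h * g) z := by
    show g⁻¹ * h * g * z = z * (g⁻¹ * h * g)
    calc g⁻¹ * h * g * z = g⁻¹ * (h * (g * z * g⁻¹)) * g := by group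
      _ = g⁻¹ * (g * z * g⁻¹ * h) * g := by rw [hu.eq]
      _ = _ := by group
  refine mem_map.2 ⟨_, L.conjQ _ e m hm, ?_⟩
  simp only [MulEquiv.coe_toMonoidHom, MulAut.conj_apply]
  group

theorem inter {g : G} (hu : g * z * g⁻¹ = qEl z q 5)
    (hN : Nat.card ↥(Q ⊓ Q.map (MulAut.conj g).toMonoidHom) = 4) (n : G) :
    n ∈ Q ⊓ Q.map (MulAut.conj g).toMonoidHom ↔ ∃ w ∈ wList, n = qEl z q w := by
  classical
  set N := Q ⊓ Q.map (MulAut.conj g).toMonoidHom with hNdef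
  have hwl : ∀ w ∈ wList, w < 32 := by decide +kernel
  have huN : qEl z q 5 ∈ N := ⟨L.mem (by norm_num),
    mem_map.2 ⟨z, L.frame.el_top ▸ L.mem (by norm_num), by simpa using hu⟩⟩
  have inA : ∀ n ∈ N, ∃ v < 32, qMul v 5 = qMul 5 v ∧ n = qEl z q v := by
    rintro n ⟨hn1, hn2⟩
    obtain ⟨v, hv, rfl⟩ := (L.hQ _).1 hn1
    refine ⟨v, hv, L.frame.el_inj (qMul_lt _ _) (qMul_lt _ _) ?_, rfl⟩
    obtain ⟨m, hm, e⟩ := mem_map.1 hn2
    rw [← L.frame.el_mul hv (by norm_num), ← L.frame.el_mul (by norm_num) hv, ← e, ← hu]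
    simp only [MulEquiv.coe_toMonoidHom, MulAut.conj_apply]
    calc g * m * g⁻¹ * (g * z * g⁻¹) = g * (m * z) * g⁻¹ := by group
      _ = g * (z * m) * g⁻¹ := by rw [mem_centralizer_singleton_iff.1 (L.hQC hm)]
      _ = _ := by group
  let WS : Finset G := (wList.map (qEl z q)).toFinset
  have hW : ∀ n, n ∈ WS ↔ ∃ w ∈ wList, n = qEl z q w := fun n => by simp [WS, eq_comm]
  have hcard : WS.card = 4 := by
    rw [List.toFinset_card_of_nodup, List.length_map]
    · rfl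
    · exact List.Nodup.map_on (fun a ha b hb e => L.frame.el_inj (hwl a ha) (hwl b hb) e) (by decide)
  have hzN : z ∈ N := by
    by_cases hall : ∀ n ∈ N, n ∈ WS
    · have hsub : (N : Set G) ⊆ ↑WS := hall
      have heq : (N : Set G) = ↑WS :=
        Set.eq_of_subset_of_ncard_le hsub
          (by rw [Set.ncard_coe_finset, hcard, ← hN, ← SetLike.coe_sort_coe, Nat.card_coe_set_eq]) WS.finite_toSet
      show z ∈ (N : Set G)
      rw [heq]
      exact Finset.mem_coe.2 ((hW z).2 ⟨16, by decide, L.frame.el_top.symm⟩)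
    · push Not at hall
      obtain ⟨n, hn, hnW⟩ := hall
      obtain ⟨v, hv, hv5, rfl⟩ := inA n hn
      rcases centre_in_A v hv hv5 with h | ⟨a, ha, ha5, hc⟩
      · exact absurd ((hW _).2 ⟨v, h, rfl⟩) hnW
      · have hau : Commute (qEl z q a) (g * z * g⁻¹) := by
          show _ * _ = _ * _
          rw [hu, L.frame.el_mul ha (by norm_num), L.frame.el_mul (by norm_num) ha, ha5]
        have hconj : qEl z q a * qEl z q v * (qEl z q a)⁻¹ ∈ N :=
          ⟨L.conjQ _ (L.comm_z ha) _ hn.1, L.conjQ' (L.comm_z ha) hau hn.2⟩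
        have e : qEl z q a * qEl z q v * (qEl z q a)⁻¹ * (qEl z q v)⁻¹ = z := by
          have key : ∀ a < 32, ∀ v < 32, qMul (qConj a v) (qInv v) = qCom a v := by decide +kernel
          rw [L.frame.el_conj ha hv, ← L.frame.el_inv hv, L.frame.el_mul (v := qConj a v) (qMul_lt _ _)
            (zero_mul_table v hv).2.2.2.2, key a ha v hv, hc, L.frame.el_top]
        rw [← e]
        exact mul_mem hconj (inv_mem hn)
  have hsub : (↑WS : Set G) ⊆ N := by
    intro n hn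
    obtain ⟨w, hw, rfl⟩ := (hW n).1 hn
    simp only [wList, List.mem_cons, List.not_mem_nil, or_false] at hw
    rcases hw with rfl | rfl | rfl | rfl
    · rw [L.frame.el_zero]; exact one_mem N
    · exact huN
    · rw [L.frame.el_top]; exact hzN
    · rw [show (21 : ℕ) = qMul 5 16 by decide +kernel, ← L.frame.el_mul (by norm_num) (by norm_num), L.frame.el_top]
      exact mul_mem huN hzN
  have hfin : (N : Set G).Finite := Nat.finite_of_card_ne_zero (by rw [SetLike.coe_sort_coe, hN]; norm_num)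
  have heq : (↑WS : Set G) = N :=
    Set.eq_of_subset_of_ncard_le hsub
      (by rw [Set.ncard_coe_finset, hcard, ← hN, ← SetLike.coe_sort_coe, Nat.card_coe_set_eq]) hfin
  show n ∈ (N : Set G) ↔ _
  rw [← heq]
  exact hW n

theorem exists_swap (hnwc : ∃ g : G, g * z * g⁻¹ ∈ Q ∧ g * z * g⁻¹ ≠ z)
    (hQQ : ∀ g : G, g * z * g⁻¹ ∈ Q → g * z * g⁻¹ ≠ z → Nat.card ↥(Q ⊓ Q.map (MulAut.conj g).toMonoidHom) = 4) :
    ∃ g : G, g * z * g⁻¹ = qEl z q 5 ∧ g * qEl z q 5 * g⁻¹ = z ∧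
      ∀ n, n ∈ Q ⊓ Q.map (MulAut.conj g).toMonoidHom ↔ ∃ w ∈ wList, n = qEl z q w := by
  have zz := L.frame.zz
  have ord : ∀ g : G, (g * z * g⁻¹) * (g * z * g⁻¹) = 1 ∧ g * z * g⁻¹ ≠ 1 := fun g =>
    ⟨by calc _ = g * (z * z) * g⁻¹ := by group
          _ = 1 := by rw [zz, mul_one, mul_inv_cancel],
      fun h => L.frame.z_ne (by simpa using h)⟩
  have u5ne : qEl z q 5 ≠ z := fun h => by
    rw [← L.frame.el_top] at h
    exact absurd (L.frame.el_inj (by norm_num) (by norm_num) h) (by norm_num)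
  obtain ⟨g₀, h0, h0'⟩ := hnwc
  obtain ⟨k, hk, ek⟩ := L.transitive h0 (ord g₀).1 (ord g₀).2 h0'
  set g := k⁻¹ * g₀
  have hg : g * z * g⁻¹ = qEl z q 5 := by
    calc g * z * g⁻¹ = k⁻¹ * (g₀ * z * g₀⁻¹) * k := by simp only [g]; group
      _ = _ := by rw [← ek]; group
  have hN := L.inter hg (hQQ g (hg ▸ L.mem (by norm_num)) (hg ▸ u5ne))
  have hzN : z ∈ Q ⊓ Q.map (MulAut.conj g).toMonoidHom := (hN z).2 ⟨16, by decide, L.frame.el_top.symm⟩
  obtain ⟨m, hm, em⟩ := mem_map.1 hzN.2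
  simp only [MulEquiv.coe_toMonoidHom, MulAut.conj_apply] at em
  have m1 : m = g⁻¹ * z * g := by rw [← em]; group
  have m2 : m * m = 1 := by
    rw [m1]
    calc _ = g⁻¹ * (z * z) * g := by group
      _ = 1 := by rw [zz, mul_one, inv_mul_cancel]
  have m3 : m ≠ 1 := fun h => L.frame.z_ne (by rw [← em, h]; group)
  have m4 : m ≠ z := fun h => u5ne (by rw [← hg, ← h, em, h])
  obtain ⟨k', hk', ek'⟩ := L.transitive hm m2 m3 m4
  refine ⟨g * k', ?_, ?_, L.inter ?_ (hQQ _ ?_ ?_)⟩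
  all_goals
    have e1 : g * k' * z * (g * k')⁻¹ = qEl z q 5 := by
      rw [← hg]
      calc g * k' * z * (g * k')⁻¹ = g * (k' * z) * k'⁻¹ * g⁻¹ := by group
        _ = g * (z * k') * k'⁻¹ * g⁻¹ := by rw [hk'.eq]
        _ = g * z * g⁻¹ := by group
  · exact e1
  · calc g * k' * qEl z q 5 * (g * k')⁻¹ = g * (k' * qEl z q 5 * k'⁻¹) * g⁻¹ := by group
      _ = z := by rw [ek', em]
  · exact e1
  · rw [e1]; exact L.mem (by norm_num)
  · rw [e1]; exact u5ne

/-- The two conjugated generators. -/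
theorem exists_pair {g : G} (hg : g * z * g⁻¹ = qEl z q 5) (hg' : g * qEl z q 5 * g⁻¹ = z)
    (hN : ∀ n, n ∈ Q ⊓ Q.map (MulAut.conj g).toMonoidHom ↔ ∃ w ∈ wList, n = qEl z q w) :
    Pair z q (g * q 0 * g⁻¹) (g * qEl z q 10 * g⁻¹) := by
  have F := L.frame
  have hwl : ∀ w ∈ wList, w < 32 := by decide +kernel
  have cj : ∀ {a : ℕ}, a < 32 → qMul a 5 = qMul 5 a → Commute (g * qEl z q a * g⁻¹) z ∧
      Commute (g * qEl z q a * g⁻¹) (qEl z q 5) := fun {a} ha h5 => by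
    have e1 : Commute (qEl z q a) (qEl z q 5) := by
      show _ * _ = _ * _
      rw [F.el_mul ha (by norm_num), F.el_mul (by norm_num) ha, h5]
    constructor
    · have h := congrArg (fun t => g * t * g⁻¹) e1.eq
      show _ * _ = _ * _
      calc g * qEl z q a * g⁻¹ * z = g * qEl z q a * g⁻¹ * (g * qEl z q 5 * g⁻¹) := by rw [hg']
        _ = g * (qEl z q a * qEl z q 5) * g⁻¹ := by group
        _ = g * qEl z q 5 * g⁻¹ * (g * qEl z q a * g⁻¹) := by rw [e1.eq]; group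
        _ = _ := by rw [hg']
    · show _ * _ = _ * _
      calc g * qEl z q a * g⁻¹ * qEl z q 5 = g * qEl z q a * g⁻¹ * (g * z * g⁻¹) := by rw [hg]
        _ = g * (qEl z q a * z) * g⁻¹ := by group
        _ = g * z * g⁻¹ * (g * qEl z q a * g⁻¹) := by rw [(L.comm_z ha).eq]; group
        _ = _ := by rw [hg]
  have e0 : qEl z q 1 = q 0 := F.el_gen 0 (by norm_num)
  have c1 : qMul 1 5 = qMul 5 1 := by decide +kernel
  have c10 : qMul 10 5 = qMul 5 10 := by decide +kernel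
  obtain ⟨bz, bu⟩ := cj (a := 1) (by norm_num) c1
  obtain ⟨cz, cu⟩ := cj (a := 10) (by norm_num) c10
  -- commutators of the two normal subgroups lie in the four elements
  have triv : ∀ a < 32, qMul a 5 = qMul 5 a → ∀ v < 32, qMul v 5 = qMul 5 v →
      ∃ w ∈ wList, qEl z q a * (g * qEl z q v * g⁻¹) * (qEl z q a)⁻¹ * (g * qEl z q v * g⁻¹)⁻¹ = qEl z q w := by
    intro a ha ha5 v hv hv5
    obtain ⟨vz, -⟩ := cj hv hv5
    set b := g * qEl z q v * g⁻¹
    have hb : b ∈ Q.map (MulAut.conj g).toMonoidHom := mem_map.2 ⟨_, L.mem hv, by simp [b]⟩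
    refine (hN _).1 ⟨?_, ?_⟩
    · rw [show qEl z q a * b * (qEl z q a)⁻¹ * b⁻¹ = qEl z q a * (b * (qEl z q a)⁻¹ * b⁻¹) by group]
      exact mul_mem (L.mem ha) (L.conjQ _ vz _ (inv_mem (L.mem ha)))
    · refine Subgroup.mul_mem _ (L.conjQ' (L.comm_z ha) ?_ hb) (Subgroup.inv_mem _ hb)
      show _ * _ = _ * _
      rw [hg, F.el_mul ha (by norm_num), F.el_mul (by norm_num) ha, ha5]
  -- conjugating the four elements
  have hsw : ∀ w ∈ wList, g * qEl z q w * g⁻¹ = qEl z q (wSwap w) ∧ wSwap w < 32 := by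
    intro w hw
    refine ⟨?_, by unfold wSwap; have := hwl w hw; split_ifs <;> omega⟩
    simp only [wList, List.mem_cons, List.not_mem_nil, or_false] at hw
    rcases hw with rfl | rfl | rfl | rfl
    · simp [wSwap, F.el_zero]
    · simp [wSwap, hg', F.el_top]
    · simp [wSwap, hg, F.el_top]
    · rw [show wSwap 21 = qMul 16 5 by decide +kernel, show (21 : ℕ) = qMul 5 16 by decide +kernel,
        ← F.el_mul (by norm_num) (by norm_num), ← F.el_mul (by norm_num) (by norm_num), F.el_top,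
        show g * (qEl z q 5 * z) * g⁻¹ = (g * qEl z q 5 * g⁻¹) * (g * z * g⁻¹) by group, hg, hg']
  -- the images of the two under the exchange
  have back : ∀ v < 32, qMul v 5 = qMul 5 v →
      ∃ u < 32, qMul u 5 = qMul 5 u ∧ g * (g * qEl z q v * g⁻¹) * g⁻¹ = qEl z q u ∧
        qMul u u = qMul v v := by
    intro v hv hv5
    obtain ⟨vz, vu⟩ := cj hv hv5
    have hk : Commute (g * g) z := by
      show g * g * z = z * (g * g)
      calc g * g * z = g * (g * z * g⁻¹) * g := by group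
        _ = (g * qEl z q 5 * g⁻¹) * (g * g) := by rw [hg]; group
        _ = _ := by rw [hg']
    have hmem : g * g * qEl z q v * (g * g)⁻¹ ∈ Q := L.conjQ _ hk _ (L.mem hv)
    obtain ⟨u, hu, eu⟩ := (L.hQ _).1 hmem
    have e : g * (g * qEl z q v * g⁻¹) * g⁻¹ = qEl z q u := by rw [eu]; group
    refine ⟨u, hu, F.el_inj (qMul_lt _ _) (qMul_lt _ _) ?_, e, F.el_inj (qMul_lt _ _) (qMul_lt _ _) ?_⟩
    · rw [← F.el_mul hu (by norm_num), ← F.el_mul (by norm_num) hu, ← e]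
      calc g * (g * qEl z q v * g⁻¹) * g⁻¹ * qEl z q 5
          = g * (g * qEl z q v * g⁻¹) * g⁻¹ * (g * z * g⁻¹) := by rw [hg]
        _ = g * ((g * qEl z q v * g⁻¹) * z) * g⁻¹ := by group
        _ = (g * z * g⁻¹) * (g * (g * qEl z q v * g⁻¹) * g⁻¹) := by rw [vz.eq]; group
        _ = _ := by rw [hg]
    · have hcases : ∀ v < 32, qMul v v = 0 ∨ qMul v v = 16 := by decide +kernel
      rw [← F.el_mul hu hu, ← e, show g * (g * qEl z q v * g⁻¹) * g⁻¹ * (g * (g * qEl z q v * g⁻¹) * g⁻¹) =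
        g * (g * (qEl z q v * qEl z q v) * g⁻¹) * g⁻¹ by group, F.el_mul hv hv]
      rcases hcases v hv with h | h
      · rw [h, F.el_zero]; group
      · rw [h, F.el_top, hg, hg']
  have mulW : ∀ {a w : ℕ}, a < 32 → w < 32 → qEl z q (qMul a w) = qEl z q a * qEl z q w :=
    fun ha hw => (F.el_mul ha hw).symm
  have wcent : ∀ w ∈ wList, ∀ n : G, Commute n z → Commute n (qEl z q 5) → Commute n (qEl z q w) := by
    intro w hw n h1 h2
    simp only [wList, List.mem_cons, List.not_mem_nil, or_false] at hw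
    rcases hw with rfl | rfl | rfl | rfl
    · rw [F.el_zero]; exact Commute.one_right _
    · exact h2
    · rw [F.el_top]; exact h1
    · rw [show (21 : ℕ) = qMul 5 16 by decide +kernel, mulW (by norm_num) (by norm_num), F.el_top]
      exact h2.mul_right h1
  rw [e0] at bz bu
  refine ⟨bz, cz, bu, cu, ?_, ?_, ?_, fun a ha h5 => e0 ▸ triv a ha h5 1 (by norm_num) c1,
    fun a ha h5 => triv a ha h5 10 (by norm_num) c10, ?_, ?_, ?_⟩
  · calc g * q 0 * g⁻¹ * (g * q 0 * g⁻¹) = g * (q 0 * q 0) * g⁻¹ := by group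
      _ = _ := by rw [F.sq 0 (by norm_num), hg]
  · calc g * qEl z q 10 * g⁻¹ * (g * qEl z q 10 * g⁻¹) = g * (qEl z q 10 * qEl z q 10) * g⁻¹ := by group
      _ = 1 := by rw [F.el_mul (by norm_num) (by norm_num), show qMul 10 10 = 0 by decide +kernel, F.el_zero]; group
  · calc g * q 0 * g⁻¹ * (g * qEl z q 10 * g⁻¹) * (g * q 0 * g⁻¹)⁻¹ * (g * qEl z q 10 * g⁻¹)⁻¹
        = g * (q 0 * qEl z q 10 * (q 0)⁻¹ * (qEl z q 10)⁻¹) * g⁻¹ := by group
      _ = _ := by
          rw [← e0, F.el_conj (by norm_num) (by norm_num), ← F.el_inv (by norm_num : 10 < 32),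
            F.el_mul (v := qConj 1 10) (qMul_lt _ _) (by decide +kernel),
            show qMul (qConj 1 10) (qInv 10) = 16 by decide +kernel, F.el_top, hg]
  · intro w hw e
    obtain ⟨u, hu, hu5, eu, hsq⟩ := back 1 (by norm_num) c1
    obtain ⟨w₁, hw₁, rfl⟩ := square_one u hu hu5 (hsq.trans (by decide +kernel))
    rw [e0] at eu
    set b := g * q 0 * g⁻¹
    have hc : Commute b (qEl z q w₁) := wcent w₁ hw₁ b bz bu
    have h1 : g * qEl z q w * g⁻¹ = b * q 0 * b⁻¹ * (q 0)⁻¹ := by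
      rw [← e]
      calc g * (q 0 * b * (q 0)⁻¹ * b⁻¹) * g⁻¹ = b * (g * b * g⁻¹) * b⁻¹ * (g * b * g⁻¹)⁻¹ := by
            simp only [b]; group
        _ = b * q 0 * (qEl z q w₁ * b⁻¹) * (qEl z q w₁)⁻¹ * (q 0)⁻¹ := by
            rw [eu, mulW (by norm_num) (hwl _ hw₁), e0]; group
        _ = _ := by rw [← (hc.inv_left).eq]; group
    rw [(hsw w hw).1, show b * q 0 * b⁻¹ * (q 0)⁻¹ = (q 0 * b * (q 0)⁻¹ * b⁻¹)⁻¹ by group, e,
      ← F.el_inv (hwl w hw)] at h1
    rw [F.el_inj (hsw w hw).2 (zero_mul_table w (hwl w hw)).2.2.2.2 h1]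
    have key : ∀ w ∈ wList, qInv w = w := by decide +kernel
    exact key w hw
  · intro w hw w' hw' e e'
    obtain ⟨u, hu, hu5, eu, hsq⟩ := back 1 (by norm_num) c1
    obtain ⟨w₁, hw₁, rfl⟩ := square_one u hu hu5 (hsq.trans (by decide +kernel))
    rw [e0] at eu
    set b := g * q 0 * g⁻¹
    set c := g * qEl z q 10 * g⁻¹
    have hc : Commute c (qEl z q w₁) := wcent w₁ hw₁ c cz cu
    have h1 : g * qEl z q w * g⁻¹ = c * q 0 * c⁻¹ * (q 0)⁻¹ := by
      rw [← e]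
      calc g * (qEl z q 10 * b * (qEl z q 10)⁻¹ * b⁻¹) * g⁻¹ = c * (g * b * g⁻¹) * c⁻¹ * (g * b * g⁻¹)⁻¹ := by
            simp only [b, c]; group
        _ = c * q 0 * (qEl z q w₁ * c⁻¹) * (qEl z q w₁)⁻¹ * (q 0)⁻¹ := by
            rw [eu, mulW (by norm_num) (hwl _ hw₁), e0]; group
        _ = _ := by rw [← (hc.inv_left).eq]; group
    rw [(hsw w hw).1, show c * q 0 * c⁻¹ * (q 0)⁻¹ = (q 0 * c * (q 0)⁻¹ * c⁻¹)⁻¹ by group, e',
      ← F.el_inv (hwl w' hw')] at h1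
    rw [F.el_inj (hsw w hw).2 (zero_mul_table w' (hwl w' hw')).2.2.2.2 h1]
    have key : ∀ w ∈ wList, qInv w = w := by decide +kernel
    exact (key w' hw').symm
  · intro w hw w' hw' e e'
    obtain ⟨u, hu, hu5, eu, hsq⟩ := back 10 (by norm_num) c10
    set c := g * qEl z q 10 * g⁻¹
    have h1 : g * qEl z q w * g⁻¹ = c * qEl z q u * c⁻¹ * (qEl z q u)⁻¹ := by
      rw [← e, ← eu]; simp only [c]; group
    rw [(hsw w hw).1] at h1
    have key : ∀ w ∈ wList, qInv w = w := by decide +kernel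
    have e10 : c * qEl z q 10 * c⁻¹ * (qEl z q 10)⁻¹ = qEl z q w := by
      rw [show c * qEl z q 10 * c⁻¹ * (qEl z q 10)⁻¹ = (qEl z q 10 * c * (qEl z q 10)⁻¹ * c⁻¹)⁻¹ by group, e,
        ← F.el_inv (hwl w hw), key w hw]
    have e1 : c * q 0 * c⁻¹ * (q 0)⁻¹ = qEl z q w' := by
      rw [show c * q 0 * c⁻¹ * (q 0)⁻¹ = (q 0 * c * (q 0)⁻¹ * c⁻¹)⁻¹ by group, e',
        ← F.el_inv (hwl w' hw'), key w' hw']
    rcases square_ten u hu hu5 (hsq.trans (by decide +kernel)) with h | ⟨w₁, hw₁, rfl⟩ | ⟨w₁, hw₁, rfl⟩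
    · left
      rw [show c * qEl z q u * c⁻¹ = qEl z q u by rw [(wcent u h c cz cu).eq]; group, mul_inv_cancel,
        ← F.el_zero] at h1
      have h0 := F.el_inj (hsw w hw).2 (by norm_num) h1
      have key : ∀ w ∈ wList, wSwap w = 0 → wSwap w = w := by decide +kernel
      exact key w hw h0
    · left
      have hc : Commute c (qEl z q w₁) := wcent w₁ hw₁ c cz cu
      rw [mulW (by norm_num) (hwl _ hw₁), show c * (qEl z q 10 * qEl z q w₁) * c⁻¹ * (qEl z q 10 * qEl z q w₁)⁻¹ =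
        c * qEl z q 10 * (qEl z q w₁ * c⁻¹) * (qEl z q w₁)⁻¹ * (qEl z q 10)⁻¹ by group, ← (hc.inv_left).eq,
        show c * qEl z q 10 * (c⁻¹ * qEl z q w₁) * (qEl z q w₁)⁻¹ * (qEl z q 10)⁻¹ =
          c * qEl z q 10 * c⁻¹ * (qEl z q 10)⁻¹ by group, e10] at h1
      exact F.el_inj (hsw w hw).2 (hwl w hw) h1
    · right
      have hc : Commute c (qEl z q w₁) := wcent w₁ hw₁ c cz cu
      have hw1 : Commute (qEl z q w) (q 0) := by
        refine (wcent w hw (q 0) (L.frame.zc 0 (by norm_num)).symm ?_).symm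
        rw [← e0]
        show _ * _ = _ * _
        rw [F.el_mul (by norm_num) (by norm_num), F.el_mul (by norm_num) (by norm_num), c1]
      rw [mulW (qMul_lt _ _) (hwl _ hw₁), mulW (by norm_num) (by norm_num), e0,
        show c * (q 0 * qEl z q 10 * qEl z q w₁) * c⁻¹ * (q 0 * qEl z q 10 * qEl z q w₁)⁻¹ =
        c * (q 0 * qEl z q 10) * (qEl z q w₁ * c⁻¹) * (qEl z q w₁)⁻¹ * (q 0 * qEl z q 10)⁻¹ by group,
        ← (hc.inv_left).eq,
        show c * (q 0 * qEl z q 10) * (c⁻¹ * qEl z q w₁) * (qEl z q w₁)⁻¹ * (q 0 * qEl z q 10)⁻¹ =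
          (c * q 0 * c⁻¹ * (q 0)⁻¹) * (q 0 * (c * qEl z q 10 * c⁻¹ * (qEl z q 10)⁻¹) * (q 0)⁻¹) by group,
        e10, e1, ← hw1.eq, mul_inv_cancel_right, F.el_mul (hwl w' hw') (hwl w hw)] at h1
      exact F.el_inj (hsw w hw).2 (qMul_lt _ _) h1

end Loc

end CfsgLib.UFourType.Coords
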